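import Groth.Agent.L05.ArCanon.Pullback
import Groth.Agent.S0052
import Groth.Agent.S0054
import Groth.Agent.S1530
import Groth.Agent.S11559
import Groth.Agent.S13321
import Groth.Agent.L02.InterPush.Basic
import Groth.Agent.L13.CurveContr.Curve
import Groth.Agent.L22.Inter.Fga
import Groth.Agent.L22.DimZero
import Groth.Agent.L18.AmpleOps

/-!
# Ampleness of the canonical sheaf on the canonical model
-/

set_option autoImplicit false
set_option linter.style.haveILetI false
set_option linter.unusedSectionVars false
set_option backward.isDefEq.respectTransparency false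
set_option backward.isDefEq.respectTransparency.types false

universe u

open CategoryTheory CategoryTheory.Limits AlgebraicGeometry TopologicalSpace

noncomputable section

namespace Groth.L05.ArCanon

variable {R : Type u} [CommRing R] [IsDomain R] [IsDiscreteValuationRing R]

/-- A module of positive degree on a vertical curve is ample there. -/
theorem isAmple_vert_of_inter_pos {X : Over (Spec (CommRingCat.of R))} [IsProper X.hom]
    [IsLocallyNoetherian X.left]
    (E : ArSurf.VertComp R X) {M : X.left.Modules} (hM : PicF.IsInvertible M)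
    (h : 0 < ArSurf.inter R X M E) : CohB1.IsAmple ((Scheme.Modules.pullback E.ι).obj M) := by
  haveI := Groth.L05.InterPair.isProper_curve E
  haveI := E.isIntegral
  haveI := Groth.L21.RR.isNoetherian_of_proper (X := E.curve.left) (IsLocalRing.ResidueField R)
  refine (Groth.Agent.S1530.result (IsLocalRing.ResidueField R) E.curve.left E.dim_eq _
    (Groth.L18.Ample.isInvertible_pullback E.ι hM)).2 ?_
  have h1 : topologicalKrullDim E.curve.left ≤ ((1 : ℕ) : WithBot ℕ∞) := by rw [Nat.cast_one]; exact E.dim_eq.le
  rw [Curv2.deg, Nat.cast_one, one_mul, ← Groth.L22.Inter.eulerCharLE_eq _ h1, ← Groth.L22.Inter.eulerCharLE_eq _ h1]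
  exact h

/-- A canonical sheaf of the contraction of the curves orthogonal to a nef canonical sheaf is ample. -/
theorem isAmple_canonical_contraction (X : Over (Spec (CommRingCat.of R))) (hX : ArSurf.IsArithSurface R X)
    {r : ℕ} (Γ : Fin r → ArSurf.VertComp R X)
    (hΓ : Function.Injective fun i => Set.range ((Γ i).ι.base : (Γ i).curve.left → X.left))
    (L : Fin r → X.left.Modules) (hL : ∀ j, ClSub.IsInverseOf (L j) (ClSub.idealMod (Γ j).ι.ker))
    (hneg : ∀ c : Fin r → ℤ, c ≠ 0 →
      (Finset.univ : Finset (Fin r × Fin r)).sum (fun p => c p.1 * c p.2 * ArSurf.inter R X (L p.2) (Γ p.1)) < 0)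
    (ωX : X.left.Modules) (hωX : Canon.IsCanonical X.hom ωX) (hK : ∀ i, ArSurf.inter R X ωX (Γ i) = 0)
    (hnef : ∀ C : ArSurf.VertComp R X, 0 ≤ ArSurf.inter R X ωX C)
    (hall : ∀ C : ArSurf.VertComp R X, ArSurf.inter R X ωX C = 0 →
      ∃ i, Set.range (C.ι.base : C.curve.left → X.left) = Set.range ((Γ i).ι.base : (Γ i).curve.left → X.left))
    (Y : Over (Spec (CommRingCat.of R))) (f : X ⟶ Y)
    (hYint : IsIntegral Y.left) (hYdim : topologicalKrullDim Y.left = 2) (hYpr : Neron.IsProjectiveOver R Y)
    (hfpt : ∀ i, ∃ y : Y.left, Set.range (((Γ i).ι ≫ f.left).base : (Γ i).curve.left → Y.left) = {y})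
    (hfpre : f.left.base ⁻¹' (f.left.base '' ⋃ i, Set.range (Γ i).ι.base) = ⋃ i, Set.range (Γ i).ι.base)
    (hfiso : ∀ V : Y.left.Opens, (V : Set Y.left) ∩ f.left.base '' (⋃ i, Set.range (Γ i).ι.base) = ∅ →
      IsIso (f.left ∣_ V))
    (ωY : Y.left.Modules) (hωY : Canon.IsCanonical Y.hom ωY) : CohB1.IsAmple ωY := by
  classical
  haveI : IsNoetherianRing (CommRingCat.of R) := inferInstanceAs (IsNoetherianRing R)
  haveI : IsProper X.hom := Groth.L05.RelMinExists.isProper_of_projective hX.2.2.2.2
  haveI : IsProper Y.hom := Groth.L05.RelMinExists.isProper_of_projective hYpr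
  haveI : IsLocallyNoetherian X.left := LocallyOfFiniteType.isLocallyNoetherian X.hom
  haveI : IsLocallyNoetherian Y.left := LocallyOfFiniteType.isLocallyNoetherian Y.hom
  haveI := hX.2.1
  haveI := hX.2.2.2.1
  haveI := hYint
  haveI : IsProper (f.left ≫ Y.hom) := by rw [Over.w f]; infer_instance
  haveI : IsProper f.left := IsProper.of_comp f.left Y.hom
  obtain ⟨eω⟩ := nonempty_pullback_canonical X hX Γ hΓ L hL hneg ωX hωX hK Y f hYpr hfpt hfpre hfiso ωY hωY
  have hinvY := Groth.L13.Canon.isInvertible_of_isCanonical hωY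
  have hinvX := Groth.L13.Canon.isInvertible_of_isCanonical hωX
  -- the contraction is surjective
  choose y hy using hfpt
  have hsurj : ∀ z : Y.left, ∃ x, f.left x = z := by
    have hyc : ∀ i, IsClosed ({y i} : Set Y.left) := fun i => by
      haveI := (Γ i).isClosedImmersion
      rw [← hy i]
      exact ((Γ i).ι ≫ f.left).isClosedMap.isClosed_range
    let V : Y.left.Opens := ⟨(⋃ i, {y i})ᶜ, (isClosed_iUnion_of_finite hyc).isOpen_compl⟩
    haveI := hfiso V (by
      rw [Set.image_iUnion, Set.iUnion_congr fun i => show f.left.base '' Set.range (Γ i).ι.base = {y i} by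
        rw [← Set.range_comp, ← hy i]; rfl]
      exact Set.compl_inter_self _)
    have hgen : genericPoint Y.left ∈ V := by
      intro h
      obtain ⟨i, hi⟩ := Set.mem_iUnion.1 h
      haveI : Subsingleton Y.left := ⟨fun p q => by
        have hp : ∀ z : Y.left, z = y i := fun z =>
          ((Set.mem_singleton_iff.1 hi) ▸ genericPoint_specializes z).mem_closed (hyc i) rfl
        rw [hp p, hp q]⟩
      haveI : DiscreteTopology Y.left := Subsingleton.discreteTopology
      have h0 := topologicalKrullDim_zero_of_discreteTopology Y.left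
      rw [hYdim] at h0
      exact absurd h0 (by norm_num)
    obtain ⟨x₀, hx₀⟩ := (f.left ∣_ V).surjective ⟨genericPoint Y.left, hgen⟩
    have hfx : f.left x₀.1 = genericPoint Y.left := by rw [← morphismRestrict_base_coe, hx₀]
    exact fun z => (genericPoint_specializes z).mem_closed f.left.isClosedMap.isClosed_range ⟨_, hfx⟩
  obtain ⟨n, Γs, hΓs, -⟩ := Groth.L05.GeomMult.exists_componentList (X := X) hX.2.2.1
  -- the closed fibre
  let s : Spec (CommRingCat.of R) := IsLocalRing.closedPoint R
  let P := Y.hom.fiber s
  let j : P ⟶ Y.left := Y.hom.fiberι s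
  have hjr : Set.range j = Y.hom ⁻¹' {s} := Y.hom.range_fiberι s
  haveI : IsClosedImmersion ((Spec (CommRingCat.of R)).fromSpecResidueField s) :=
    IsClosedImmersion.of_isPreimmersion _ (by
      rw [Scheme.range_fromSpecResidueField]
      exact (PrimeSpectrum.isClosed_singleton_iff_isMaximal _).2 (IsLocalRing.maximalIdeal.isMaximal R))
  haveI : IsClosedImmersion j :=
    MorphismProperty.pullback_fst (P := @IsClosedImmersion) Y.hom _ inferInstance
  letI : P.Over (Spec (CommRingCat.of R)) := ⟨j ≫ Y.hom⟩
  haveI : IsProper (P ↘ Spec (CommRingCat.of R)) := inferInstanceAs (IsProper (j ≫ Y.hom))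
  have hP : CohB1.IsAmple ((Scheme.Modules.pullback j).obj ωY) := by
    refine (Groth.Agent.S11559.result R P _ (Groth.L18.Ample.isInvertible_pullback j hinvY)).2 fun Z hZ => ?_
    let C := (Scheme.IdealSheafData.vanishingIdeal Z).subscheme
    let ι₀ : C ⟶ P := (Scheme.IdealSheafData.vanishingIdeal Z).subschemeι
    have hι₀ : Set.range ι₀ = (Z : Set P) := by
      rw [Scheme.IdealSheafData.range_subschemeι, Scheme.IdealSheafData.coe_support_vanishingIdeal]
    haveI : AlgebraicGeometry.IsReduced C := Groth.L18.isReduced_vanishingIdeal_subscheme Z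
    haveI : Nonempty C := by
      obtain ⟨z, hz⟩ := hZ.1.nonempty
      obtain ⟨c, -⟩ := hι₀.ge hz
      exact ⟨c⟩
    have hinvC : PicF.IsInvertible ((Scheme.Modules.pullback ι₀).obj ((Scheme.Modules.pullback j).obj ωY)) :=
      Groth.L18.Ample.isInvertible_pullback ι₀ (Groth.L18.Ample.isInvertible_pullback j hinvY)
    obtain ⟨z₀, hz₀⟩ := QuasiSober.sober hZ.1 Z.isClosed
    obtain ⟨x, hx⟩ := hsurj (j z₀)
    have hzs : Y.hom (j z₀) = s := hjr.le ⟨z₀, rfl⟩
    have hxs : x ∈ Models.specialFibreSet R X := by
      show X.hom.base x = IsLocalRing.closedPoint R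
      rw [← Over.w f, Scheme.Hom.comp_apply, hx, hzs]
    obtain ⟨i, c₀, hc₀⟩ := Groth.L05.FibreDecomp.exists_component hΓs hxs
    let E := Γs i
    haveI := E.isClosedImmersion
    haveI := E.isIntegral
    haveI := Groth.L05.InterPair.isProper_curve E
    let g : E.curve.left ⟶ Y.left := E.ι ≫ f.left
    have hg : ∀ c, g c ∈ Set.range j := fun c => by
      rw [hjr]
      show Y.hom (g c) = s
      rw [Scheme.Hom.comp_apply, ← Scheme.Hom.comp_apply, Over.w f]
      exact Groth.L13.CurveContr.mem_special_of_vertComp X E c
    choose u hu using hg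
    have hucont : Continuous u := by
      rw [j.isEmbedding.isInducing.continuous_iff, show (j ∘ u : E.curve.left → Y.left) = g from funext hu]
      exact g.continuous
    have hrange : (Z : Set P) = Set.range u := by
      have hcl : IsClosed (Set.range u) := by
        have hpre : Set.range u = j ⁻¹' Set.range g := by
          ext q
          constructor
          · rintro ⟨c, hc⟩
            exact ⟨c, by rw [← hc]; exact (hu c).symm⟩
          · rintro ⟨c, hc⟩
            exact ⟨c, j.isEmbedding.injective ((hu c).trans hc)⟩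
        rw [hpre]
        exact g.isClosedMap.isClosed_range.preimage j.continuous
      have hle : (Z : Set P) ⊆ Set.range u := by
        rw [← hz₀.def]
        refine closure_minimal (Set.singleton_subset_iff.2 ⟨c₀, j.isEmbedding.injective ?_⟩) hcl
        rw [hu]
        show f.left (E.ι c₀) = _
        rw [hc₀, hx]
      refine hle.antisymm (hZ.2 ?_ hle)
      rw [← Set.image_univ]
      exact (IrreducibleSpace.isIrreducible_univ _).image u hucont.continuousOn
    let m : C ⟶ Y.left := ι₀ ≫ j
    have hm : Set.range m = Set.range g := by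
      rw [Scheme.Hom.comp_base, TopCat.coe_comp, Set.range_comp]
      rw [hι₀, hrange, ← Set.range_comp, show (j.base ∘ u : E.curve.left → Y.left) = g from funext hu]
    haveI : IsLocallyNoetherian E.curve.left := LocallyOfFiniteType.isLocallyNoetherian E.ι
    haveI : CompactSpace E.curve.left :=
      QuasiCompact.compactSpace_of_compactSpace (E.curve.left ↘ Spec (CommRingCat.of (IsLocalRing.ResidueField R)))
    haveI : AlgebraicGeometry.IsNoetherian E.curve.left := {}
    rcases Groth.L13.CurveContr.constant_or_finite
        (Groth.L13.CurveContr.isClosed_of_ne_genericPoint E.dim_eq.le) g g.isClosedMap with hconst | hfin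
    · haveI : Subsingleton C := ⟨fun a b => m.isEmbedding.injective (by
        obtain ⟨a', ha⟩ := hm.le ⟨a, rfl⟩
        obtain ⟨b', hb⟩ := hm.le ⟨b, rfl⟩
        rw [← ha, ← hb, hconst a', hconst b'])⟩
      haveI : DiscreteTopology C := Subsingleton.discreteTopology
      haveI : Finite C := Finite.of_subsingleton
      haveI : IsAffine C := Groth.L22.DimZero.isAffine_of_discrete_finite
      exact Groth.L18.Ample.isAmple_of_isQuasiAffine hinvC
    · have hpos : 0 < ArSurf.inter R X ωX E := by
        refine (hnef E).lt_of_ne fun h0 => ?_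
        obtain ⟨k, hk⟩ := hall E h0.symm
        have hall' : ∀ c, g c = y k := fun c => by
          obtain ⟨d, hd⟩ := hk.le ⟨c, rfl⟩
          show f.left (E.ι c) = y k
          rw [← hd]
          exact (hy k).le ⟨d, rfl⟩
        have h1 := hfin (y k)
        rw [show g ⁻¹' {y k} = Set.univ from Set.eq_univ_of_forall hall'] at h1
        haveI : Finite E.curve.left := Set.finite_univ_iff.1 h1
        haveI : JacobsonSpace E.curve.left :=
          LocallyOfFiniteType.jacobsonSpace (E.curve.left ↘ Spec (CommRingCat.of (IsLocalRing.ResidueField R)))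
        haveI : DiscreteTopology E.curve.left := inferInstance
        have hdim : topologicalKrullDim E.curve.left ≤ 0 :=
          topologicalKrullDim_zero_of_discreteTopology E.curve.left
        rw [E.dim_eq] at hdim
        exact not_lt.2 hdim (by norm_num)
      have hker : m.ker ≤ g.ker := by
        let T : Closeds Y.left := ⟨Set.range g, g.isClosedMap.isClosed_range⟩
        rw [show m.ker = Scheme.IdealSheafData.vanishingIdeal T from
          (Groth.L23.SchKer.ker_eq_vanishingIdeal m).trans (congrArg _ (Closeds.ext (by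
            exact (m.isClosedEmbedding.isClosed_range.closure_eq).trans hm)))]
        exact Groth.L02.InterPush.vanishingIdeal_le_ker g T subset_rfl
      let h : E.curve.left ⟶ C := IsClosedImmersion.lift m g hker
      have hh : h ≫ m = g := IsClosedImmersion.lift_fac _ _ _
      haveI : Surjective h := ⟨fun c => by
        obtain ⟨e, he⟩ := hm.le ⟨c, rfl⟩
        refine ⟨e, m.isEmbedding.injective ?_⟩
        rw [← Scheme.Hom.comp_apply, hh, he]⟩
      haveI : IsProper g := inferInstance
      haveI : LocallyQuasiFinite g := LocallyQuasiFinite.of_finite_preimage_singleton g hfin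
      haveI : IsFinite g := IsFinite.of_isProper_of_locallyQuasiFinite g
      haveI : IsFinite (h ≫ m) := by rw [hh]; infer_instance
      haveI : IsFinite h := IsFinite.of_comp h m
      refine (Groth.Agent.S0052.result R (m ≫ Y.hom) (h ≫ m ≫ Y.hom) h rfl _ hinvC).2 ?_
      exact Groth.L18.Ample.isAmple_of_iso
        ((Scheme.Modules.pullback E.ι).mapIso eω.symm ≪≫ (Scheme.Modules.pullbackComp E.ι f.left).app ωY ≪≫
          (Scheme.Modules.pullbackCongr hh.symm).app ωY ≪≫
          ((Scheme.Modules.pullbackComp h m).app ωY).symm ≪≫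
          (Scheme.Modules.pullback h).mapIso ((Scheme.Modules.pullbackComp ι₀ j).app ωY).symm)
        (isAmple_vert_of_inter_pos E hinvX hpos)
  -- spreading out
  haveI : AlgebraicGeometry.IsNoetherian (Spec (CommRingCat.of R)) := inferInstance
  obtain ⟨V, hsV, hV⟩ := Groth.Agent.S0054.result Y.hom ωY hinvY s hP
  have hVtop : V = ⊤ := Opens.ext (Set.eq_univ_of_forall fun p =>
    (IsLocalRing.specializes_closedPoint p).mem_open V.2 hsV)
  have htop := hV ⊤ hVtop.ge (isAffineOpen_top _)
  rw [Groth.L18.Ample.isAmple_restrict_iff_pullback] at htop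
  haveI : IsIso (Y.hom ⁻¹ᵁ ⊤).ι := inferInstanceAs (IsIso Y.left.topIso.hom)
  exact (Groth.L18.Ample.isAmple_pullback_iso_iff (asIso (Y.hom ⁻¹ᵁ ⊤).ι)).1 htop

end Groth.L05.ArCanon
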