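import Groth.Agent.L05.CanonBC.Main
import Groth.Agent.L05.ContractUnique.Main
import Groth.Agent.L05.RelMinUnique.Main
import Groth.Agent.L05.InterPair.Main
import Groth.Agent.S18498

/-!
# Automorphisms of the generic fibre extend to the canonical model
-/

set_option autoImplicit false
set_option linter.style.haveILetI false
set_option backward.isDefEq.respectTransparency false
set_option backward.isDefEq.respectTransparency.types false

universe u

open CategoryTheory CategoryTheory.Limits AlgebraicGeometry TopologicalSpace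

noncomputable section

namespace Groth.L05.ArCanon

variable {R : Type u} [CommRing R] [IsDomain R] [IsDiscreteValuationRing R]

theorem exists_extension (X : Over (Spec (CommRingCat.of R))) (hX : ArSurf.IsArithSurface R X)
    (hmin : Neron.IsRelMinimalRegularModel R X)
    (hg : FGA.eulerCharLE (FractionRing R) ((Neron.genericFibre R).obj X).left
      (Coh.structureModule ((Neron.genericFibre R).obj X).left) 1 ≤ 0)
    (ωX : X.left.Modules) (hωX : Canon.IsCanonical X.hom ωX)
    {r : ℕ} (Γ : Fin r → ArSurf.VertComp R X)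
    (hK : ∀ i, ArSurf.inter R X ωX (Γ i) = 0)
    (hall : ∀ C : ArSurf.VertComp R X, ArSurf.inter R X ωX C = 0 →
      ∃ i, Set.range (C.ι.base : C.curve.left → X.left) = Set.range ((Γ i).ι.base : (Γ i).curve.left → X.left))
    (Y : Over (Spec (CommRingCat.of R))) (f : X ⟶ Y)
    (hYint : IsIntegral Y.left) (hYnor : ∀ q : Y.left, IsIntegrallyClosed (Y.left.presheaf.stalk q))
    (hYdim : topologicalKrullDim Y.left = 2) (hYfl : Flat Y.hom) (hYpr : Neron.IsProjectiveOver R Y)
    (hfpt : ∀ i, ∃ y : Y.left, Set.range (((Γ i).ι ≫ f.left).base : (Γ i).curve.left → Y.left) = {y})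
    (hfpre : f.left.base ⁻¹' (f.left.base '' ⋃ i, Set.range (Γ i).ι.base) = ⋃ i, Set.range (Γ i).ι.base)
    (hfiso : ∀ V : Y.left.Opens, (V : Set Y.left) ∩ f.left.base '' (⋃ i, Set.range (Γ i).ι.base) = ∅ →
      IsIso (f.left ∣_ V))
    (σ : (Neron.genericFibre R).obj Y ≅ (Neron.genericFibre R).obj Y) :
    ∃! τ : Y ⟶ Y, IsIso τ ∧ (Neron.genericFibre R).map τ = σ.hom := by
  haveI : IsProper X.hom := Groth.L05.RelMinExists.isProper_of_projective hX.2.2.2.2
  haveI : IsProper Y.hom := Groth.L05.RelMinExists.isProper_of_projective hYpr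
  haveI := hX.2.1; haveI := hYint; haveI := hYfl
  haveI : IsLocallyNoetherian X.left := LocallyOfFiniteType.isLocallyNoetherian X.hom
  haveI : IsProper f.left := by
    haveI : IsProper (f.left ≫ Y.hom) := by rw [Over.w f]; infer_instance
    exact IsProper.of_comp f.left Y.hom
  -- the image of the curves lies in the closed fibre
  have hclosed : IsClosed (f.left.base '' Groth.L05.ContractUnique.union Γ) := by
    choose y hy using hfpt
    rw [Groth.L05.ContractUnique.union, Set.image_iUnion]
    refine isClosed_iUnion_of_finite fun i => ?_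
    rw [← Set.range_comp]
    exact ((Γ i).ι ≫ f.left).isClosedMap.isClosed_range
  let W : Y.left.Opens := ⟨(f.left.base '' Groth.L05.ContractUnique.union Γ)ᶜ, hclosed.isOpen_compl⟩
  haveI := hfiso W (Set.compl_inter_self _)
  have hW : ∀ y : Y.left, (Y.hom y).asIdeal = ⊥ → y ∈ W := by
    rintro y hy ⟨x, hx, rfl⟩
    obtain ⟨i, c, rfl⟩ := Set.mem_iUnion.1 hx
    rw [← Scheme.Hom.comp_apply, Over.w f, ← Scheme.Hom.comp_apply, (Γ i).w, Scheme.Hom.comp_apply] at hy
    generalize ((Γ i).curve.hom c) = p at hy
    change Ideal.comap (IsLocalRing.residue R) p.asIdeal = ⊥ at hy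
    have hle : IsLocalRing.maximalIdeal R ≤ Ideal.comap (IsLocalRing.residue R) p.asIdeal := fun a ha => by
      rw [Ideal.mem_comap, IsLocalRing.residue_eq_zero_iff _ |>.2 ha]; exact zero_mem _
    rw [hy, le_bot_iff] at hle
    exact IsDiscreteValuationRing.not_a_field R hle
  haveI hfη : IsIso ((Neron.genericFibre R).map f) := Groth.L05.RelMinUnique.isIso_genericFibre_of_restrict f W hW
  let e := asIso ((Neron.genericFibre R).map f)
  obtain ⟨t, ⟨ht, htgen⟩, -⟩ := Groth.L05.RelMinUnique.existsUnique_iso hX hX hmin hmin hg (e ≪≫ σ ≪≫ e.symm)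
  haveI := ht
  haveI : IsIso t.left := inferInstanceAs (IsIso ((Over.forget _).map t))
  -- the extension preserves the canonical sheaf, hence permutes the curves
  have hpb : IsPullback t.left X.hom X.hom (𝟙 _) := IsPullback.of_horiz_isIso ⟨by rw [Over.w t, Category.comp_id]⟩
  obtain ⟨w⟩ := Groth.L05.CanonBC.nonempty_iso_of_isCanonical hωX
    (Groth.L05.CanonBC.isCanonical_baseChange hpb (Or.inl hX.2.2.2.1) hωX)
  have hsub : ∀ i, ∃ j, t.left.base '' Set.range (Γ i).ι.base = Set.range (Γ j).ι.base := fun i => by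
    let C : ArSurf.VertComp R X :=
      ⟨(Γ i).curve, (Γ i).ι ≫ t.left, inferInstance, (Γ i).isIntegral, (Γ i).dim_eq, by
        rw [Category.assoc, Over.w t]; exact (Γ i).w⟩
    obtain ⟨j, hj⟩ := hall C (by
      rw [← hK i]
      haveI := Groth.L05.InterPair.isProper_curve (Γ i)
      exact Groth.L05.InterPair.curveDeg_congr (IsLocalRing.ResidueField R) (Γ i).dim_eq (((Scheme.Modules.pullbackComp (Γ i).ι t.left).app ωX).symm ≪≫
        (Scheme.Modules.pullback (Γ i).ι).mapIso w.symm))
    exact ⟨j, by rw [← Set.range_comp]; exact hj⟩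
  choose π hπ using hsub
  have htinj : Function.Injective t.left.base := t.left.homeomorph.injective
  have himg : t.left.base '' Groth.L05.ContractUnique.union Γ = Groth.L05.ContractUnique.union Γ := by
    rw [Groth.L05.ContractUnique.union, Set.image_iUnion]
    let s : Finset (Set X.left) := Finset.univ.image fun i => Set.range (Γ i).ι.base
    have hs : s.image (fun S => t.left.base '' S) = s := by
      classical
      refine Finset.eq_of_subset_of_card_le (fun S hS => ?_) (le_of_eq (Finset.card_image_of_injective _ htinj.image_injective).symm)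
      simp only [s, Finset.mem_image, Finset.mem_univ, true_and] at hS ⊢
      obtain ⟨_, ⟨i, rfl⟩, rfl⟩ := hS
      exact ⟨π i, (hπ i).symm⟩
    refine subset_antisymm (Set.iUnion_subset fun i => (hπ i).le.trans (Set.subset_iUnion (fun j => Set.range (Γ j).ι.base) _))
      (Set.iUnion_subset fun i => ?_)
    have hmem : Set.range (Γ i).ι.base ∈ s.image (fun S => t.left.base '' S) := by
      rw [hs]; simp [s]
    simp only [s, Finset.mem_image, Finset.mem_univ, true_and] at hmem
    obtain ⟨_, ⟨j, rfl⟩, hj⟩ := hmem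
    exact hj.ge.trans (Set.subset_iUnion (fun j => t.left.base '' Set.range (Γ j).ι.base) j)
  have h₁ : Groth.L05.ContractUnique.IsContr Γ Y f := ⟨hYint, hYnor, hYdim, inferInstance, hfpt, hfpre, hfiso⟩
  have h₂ : Groth.L05.ContractUnique.IsContr Γ Y (t ≫ f) := by
    refine ⟨hYint, hYnor, hYdim, inferInstance, fun i => ?_, ?_, fun V hV => ?_⟩
    · obtain ⟨y, hy⟩ := hfpt (π i)
      refine ⟨y, ?_⟩
      rw [← hy]
      simp only [Over.comp_left, Scheme.Hom.comp_base, TopCat.coe_comp, Set.range_comp]
      rw [← hπ i, Set.image_comp]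
    · simp only [Over.comp_left, Scheme.Hom.comp_base, TopCat.coe_comp, Set.preimage_comp, Set.image_comp, himg]
      rw [show f.left.base ⁻¹' (f.left.base '' Groth.L05.ContractUnique.union Γ) = Groth.L05.ContractUnique.union Γ
        from hfpre]
      conv_lhs => rw [← himg]
      exact Set.preimage_image_eq _ htinj
    · haveI := hfiso V (by
        rw [← hV]
        simp only [Over.comp_left, Scheme.Hom.comp_base, TopCat.coe_comp, Set.image_comp, himg]
        rfl)
      rw [Over.comp_left, morphismRestrict_comp]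
      infer_instance
  obtain ⟨⟨g, hgf, -⟩, hiso⟩ := Groth.L05.ContractUnique.existsUnique_iso Γ f (t ≫ f) h₁ h₂
  haveI := hiso g hgf
  have hgen : (Neron.genericFibre R).map g = σ.hom := by
    rw [← cancel_epi ((Neron.genericFibre R).map f), ← Functor.map_comp, hgf, Functor.map_comp, htgen]
    simp [e]
  exact ⟨g, ⟨inferInstance, hgen⟩,
    fun g' hg' => Groth.Agent.S18498.result R Y Y g' g (hg'.2.trans hgen.symm)⟩

end Groth.L05.ArCanon
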