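import Groth.Agent.L05.ArCanon.CurveEuler
import Groth.Agent.L05.EulerDiv.Fibre
import Groth.Agent.L05.GeomMult.Components
import Groth.Agent.L05.FibreDecomp.Main
import Groth.Agent.L05.RelMinExists.Main
import Groth.Agent.L13.CurveContr.Ample
import Groth.Agent.L16.ProperFinite
import Groth.Agent.L26.Pic0.Support
import Groth.Agent.L19.CurveSecZero
import Groth.Agent.L22.CartierDecomp
import Groth.Agent.L22.CurveDeg.Det.Main
import Groth.Agent.L05.MinModel.Basic
import Groth.Agent.S1641
import Groth.Agent.S1530
import Groth.Agent.S1026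
import Groth.Agent.S9805

/-!
# The number of components of the closed fibre of a canonically polarised model
-/

set_option autoImplicit false
set_option linter.style.haveILetI false
set_option linter.unusedSectionVars false
set_option backward.isDefEq.respectTransparency false
set_option backward.isDefEq.respectTransparency.types false

universe u

open CategoryTheory CategoryTheory.Limits AlgebraicGeometry TopologicalSpace

noncomputable section

namespace Groth.L05.ArCanon

/-- The Euler characteristic of a coherent module on a fibre, read on any field valued fibre. -/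
theorem eulerChar_module_eq {X S : Scheme.{u}} (f : X ⟶ S) [IsProper f] [IsLocallyNoetherian S]
    {M : X.Modules} (hM : Coh.IsCoh M)
    (L : Type u) [Field L] (t : Spec (CommRingCat.of L) ⟶ S) {P : Scheme.{u}} (g : P ⟶ X)
    (q : P ⟶ Spec (CommRingCat.of L)) (sq : IsPullback g q f t) :
    letI : P.Over (Spec (CommRingCat.of L)) := ⟨q⟩
    PerfAux.eulerChar f M (t (IsLocalRing.closedPoint L)) =
      Curv2.euler L P ((Scheme.Modules.pullback g).obj M) := by
  letI : P.Over (Spec (CommRingCat.of L)) := ⟨q⟩
  let y := t (IsLocalRing.closedPoint L)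
  letI : (f.fiber y).Over (Spec (CommRingCat.of (S.residueField y))) := ⟨f.fiberToSpecResidueField y⟩
  let φ := Scheme.descResidueField (Scheme.stalkClosedPointTo t)
  letI : Algebra (S.residueField y) L := φ.hom.toAlgebra
  have hte : Spec.map φ ≫ S.fromSpecResidueField y = t :=
    Scheme.descResidueField_stalkClosedPointTo_fromSpecResidueField L S t
  let p : P ⟶ f.fiber y := pullback.lift g (q ≫ Spec.map φ) (by rw [Category.assoc, hte]; exact sq.w)
  have hp : p ≫ f.fiberι y = g := pullback.lift_fst _ _ _
  have sq' : IsPullback p q (f.fiberToSpecResidueField y)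
      (Spec.map (CommRingCat.ofHom (algebraMap (S.residueField y) L))) := by
    refine IsPullback.of_right (h₁₂ := f.fiberι y) (h₂₂ := S.fromSpecResidueField y) (v₁₃ := f) ?_ ?_
      (IsPullback.of_hasPullback f (S.fromSpecResidueField y))
    · rw [hp, show CommRingCat.ofHom (algebraMap (S.residueField y) L) = φ from rfl, hte]
      exact sq
    · exact pullback.lift_snd _ _ _
  haveI : IsProper (f.fiberToSpecResidueField y) := MorphismProperty.pullback_snd _ _ inferInstance
  haveI : IsProper (f.fiber y ↘ Spec (CommRingCat.of (S.residueField y))) :=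
    inferInstanceAs (IsProper (f.fiberToSpecResidueField y))
  haveI : IsLocallyNoetherian (f.fiber y) :=
    LocallyOfFiniteType.isLocallyNoetherian (f.fiber y ↘ Spec (CommRingCat.of (S.residueField y)))
  haveI : IsLocallyNoetherian X := LocallyOfFiniteType.isLocallyNoetherian f
  have h := Groth.L21.RR.euler_pullback (k := S.residueField y) (K := L) p sq'
    (Groth.L16.AffineBC.isCoh_pullback (f.fiberι y) hM)
  refine Eq.trans h.symm ?_
  exact Groth.L03.Euler.euler_iso ((Scheme.Modules.pullbackComp p (f.fiberι y)).app _ ≪≫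
    (Scheme.Modules.pullbackCongr hp).app _)

variable {R : Type u} [CommRing R] [IsDomain R] [IsDiscreteValuationRing R]

/-- At most `-2χ` components in the closed fibre when the canonical sheaf is ample. -/
theorem ncard_fibreComponents_le (Y : Over (Spec (CommRingCat.of R))) [IsIntegral Y.left]
    (hdim : topologicalKrullDim Y.left = 2) [Flat Y.hom] (hproj : Neron.IsProjectiveOver R Y)
    (ωY : Y.left.Modules) (hωY : Canon.IsCanonical Y.hom ωY) (hamp : CohB1.IsAmple ωY) :
    (Set.ncard (Models.fibreComponents R Y) : ℤ) ≤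
      -2 * FGA.eulerCharLE (FractionRing R) ((Neron.genericFibre R).obj Y).left
        (Coh.structureModule ((Neron.genericFibre R).obj Y).left) 1 := by
  classical
  haveI : IsNoetherianRing (CommRingCat.of R) := inferInstanceAs (IsNoetherianRing R)
  haveI : IsProper Y.hom := Groth.L05.RelMinExists.isProper_of_projective hproj
  haveI : IsLocallyNoetherian Y.left := LocallyOfFiniteType.isLocallyNoetherian Y.hom
  let K := FractionRing R
  let κ := IsLocalRing.ResidueField R
  have hinv : PicF.IsInvertible ωY := Groth.L13.Canon.isInvertible_of_isCanonical hωY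
  have hcoh : Coh.IsCoh ωY := Groth.L16.ProperFinite.isCoh_of_isInvertible hinv
  -- the closed fibre and one of its components
  let t : Spec (CommRingCat.of κ) ⟶ Spec (CommRingCat.of R) := Groth.L05.GeomMult.pt R
  let P := pullback Y.hom t
  let ι : P ⟶ Y.left := pullback.fst Y.hom t
  letI : P.Over (Spec (CommRingCat.of κ)) := ⟨pullback.snd Y.hom t⟩
  haveI : IsProper (P ↘ Spec (CommRingCat.of κ)) := MorphismProperty.pullback_snd (P := @IsProper) Y.hom t inferInstance
  haveI : AlgebraicGeometry.IsNoetherian P := Groth.L21.RR.isNoetherian_of_proper (X := P) κ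
  obtain ⟨n, Γ, hΓ, -⟩ := Groth.L05.GeomMult.exists_componentList (X := Y) hdim
  have hPdim : topologicalKrullDim P ≤ ((1 : ℕ) : WithBot ℕ∞) := by
    rw [Nat.cast_one]
    refine iSup_le fun l => ?_
    obtain ⟨W, hW, hle⟩ := exists_mem_irreducibleComponents_subset_of_isIrreducible (l (Fin.last _) : Set P)
      (l (Fin.last _)).isIrreducible
    rw [← Groth.L05.GeomMult.dim_component hdim hW]
    have hc : ∀ i, (l i : Set P) ⊆ W := fun i => fun z hz => hle (l.monotone (Fin.le_last i) hz)
    let l' : LTSeries (IrreducibleCloseds W) :=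
      { length := l.length
        toFun := fun i => ⟨Subtype.val ⁻¹' (l i : Set P),
          by
            refine ⟨?_, ?_⟩
            · obtain ⟨z, hz⟩ := (l i).isIrreducible.nonempty
              exact ⟨⟨z, hc i hz⟩, hz⟩
            · intro u v hu hv
              rintro ⟨a, ha, hau⟩ ⟨b, hb, hbv⟩
              obtain ⟨u', hu', rfl⟩ := isOpen_induced_iff.1 hu
              obtain ⟨v', hv', rfl⟩ := isOpen_induced_iff.1 hv
              obtain ⟨z, hz, hzu, hzv⟩ := (l i).isIrreducible.2 u' v' hu' hv' ⟨_, ha, hau⟩ ⟨_, hb, hbv⟩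
              exact ⟨⟨z, hc i hz⟩, hz, hzu, hzv⟩,
          (l i).isClosed.preimage continuous_subtype_val⟩
        step := fun i => by
          have hlt : l i.castSucc < l i.succ := l.step i
          show @LT.lt (IrreducibleCloseds W) _ _ _
          refine lt_of_le_of_ne (fun z hz => hlt.le hz) fun h => hlt.ne ?_
          refine IrreducibleCloseds.ext (Set.Subset.antisymm (fun z hz => hlt.le hz) fun z hz => ?_)
          exact (Set.ext_iff.1 (congrArg IrreducibleCloseds.carrier h) ⟨z, hc _ hz⟩).2 hz }
    exact le_iSup (fun q : LTSeries (IrreducibleCloseds W) => (q.length : WithBot ℕ∞)) l'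
  -- the generic fibre
  obtain ⟨η, -⟩ : ∃ η : Y.left, η = genericPoint Y.left := ⟨_, rfl⟩
  obtain ⟨i₀, -⟩ : ∃ i : Fin n, True := by
    obtain ⟨z, -, hz⟩ : ∃ z, genericPoint Y.left ⤳ z ∧ Y.hom z = IsLocalRing.closedPoint R := by
      have h1 : IsLocalRing.closedPoint R ∈ Y.hom '' closure {genericPoint Y.left} :=
        (IsLocalRing.specializes_closedPoint (Y.hom (genericPoint Y.left))).mem_closed
          (Y.hom.isClosedMap _ isClosed_closure) ⟨_, subset_closure rfl, rfl⟩
      obtain ⟨z, hz, hpz⟩ := h1
      exact ⟨z, specializes_iff_mem_closure.2 hz, hpz⟩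
    obtain ⟨i, -⟩ := Groth.L05.FibreDecomp.exists_component hΓ (x := z) hz
    exact ⟨i, trivial⟩
  let G := ((Neron.genericFibre R).obj Y).left
  let g : G ⟶ Y.left := pullback.fst Y.hom (Neron.genPt R)
  let qG : G ⟶ Spec (CommRingCat.of K) := ((Neron.genericFibre R).obj Y).hom
  have hpb : IsPullback g qG Y.hom (Neron.genPt R) := IsPullback.of_hasPullback _ _
  haveI : IsIntegral G := Groth.L13.CurveContr.isIntegral_genericFibre Y
  have hGdim : topologicalKrullDim G = 1 := Groth.L13.CurveContr.dim_genericFibre Y hdim (Γ i₀)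
  letI : G.Over (Spec (CommRingCat.of K)) := ⟨qG⟩
  haveI : IsProper (G ↘ Spec (CommRingCat.of K)) := MorphismProperty.of_isPullback (P := @IsProper) hpb inferInstance
  haveI : AlgebraicGeometry.IsNoetherian G := Groth.L21.RR.isNoetherian_of_proper (X := G) K
  haveI : Flat (Neron.genPt R) := by
    haveI : IsOpenImmersion (Neron.genPt R) := Groth.L05.MinModel.isOpenImmersion_gen
    infer_instance
  obtain ⟨N, i, hi, hiY⟩ := hproj
  let jY : Y.left ⟶ CohB1.ProjSpace N R := i ≫ (Groth.L16.ProjSpace.isoOver N R).inv
  have hjY : jY ≫ CohB1.ProjSpace.toSpec N R = Y.hom := by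
    rw [Category.assoc, ← Groth.L16.ProjSpace.isoOver_hom_toBase (n := N) (R := R), Iso.inv_hom_id_assoc, hiY]
  have hpbK := Groth.L16.ProjSpace.isPullback_map N (algebraMap R K)
  let jK : G ⟶ CohB1.ProjSpace N K := hpbK.lift (g ≫ jY) qG (by rw [Category.assoc, hjY]; exact hpb.w)
  have hjK₁ : jK ≫ Groth.L16.ProjSpace.map N (algebraMap R K) = g ≫ jY := IsPullback.lift_fst _ _ _ _
  have hjK₂ : jK ≫ CohB1.ProjSpace.toSpec N K = qG := IsPullback.lift_snd _ _ _ _
  haveI : IsClosedImmersion jY := inferInstance
  have hsq : IsPullback g jK jY (Groth.L16.ProjSpace.map N (algebraMap R K)) := by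
    refine IsPullback.of_bot ?_ hjK₁.symm hpbK
    rw [hjK₂, hjY]
    exact hpb
  haveI : IsClosedImmersion jK := MorphismProperty.of_isPullback (P := @IsClosedImmersion) hsq inferInstance
  have hKeuler := euler_isCanonical_curve (k := K) hGdim jK hjK₂
    (Groth.L05.CanonBC.isCanonical_baseChange hpb (Or.inr inferInstance) hωY)
  -- constancy
  have hlc : ∀ {M : Y.left.Modules}, Coh.IsCoh M → PicF.IsInvertible M →
      Curv2.euler K G ((Scheme.Modules.pullback g).obj M) =
        Curv2.euler κ P ((Scheme.Modules.pullback ι).obj M) := by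
    intro M hM hMi
    haveI : IsDomain (CommRingCat.of R) := inferInstanceAs (IsDomain R)
    have hfp : CohB1.IsFP M := ((Groth.Agent.S9805.result Y.left M hM.1).2
      (Groth.L18.KRRAmple.isFinLocFree_of_rank (Groth.L22.CurveDeg.Det.isFinLocFreeOfRank_one_of_isInvertible hMi))).2
    have heq := (Groth.Agent.S1026.result Y.hom M hfp (Groth.Agent.Pic0.isFlatOver_of_isInvertible Y.hom hMi)).apply_eq_of_preconnectedSpace
      (Neron.genPt R (IsLocalRing.closedPoint K)) (t (IsLocalRing.closedPoint κ))
    rw [eulerChar_module_eq Y.hom hM K (Neron.genPt R) g qG hpb,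
      eulerChar_module_eq Y.hom hM κ t ι (pullback.snd Y.hom t) (IsPullback.of_hasPullback _ _)] at heq
    exact heq
  have hO := hlc (M := Coh.structureModule Y.left) Groth.L16.CohClosedPush.isCoh_structure
    (Groth.L18.Ample.isInvertible_structureModule _)
  rw [Groth.L03.Euler.euler_iso (Groth.L29.LocFree.pullbackUnitIso g),
    Groth.L03.Euler.euler_iso (Groth.L29.LocFree.pullbackUnitIso ι)] at hO
  have hdeg : Curv2.deg κ P ((Scheme.Modules.pullback ι).obj ωY) 1 =
      -2 * FGA.eulerCharLE K G (Coh.structureModule G) 1 := by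
    rw [Curv2.deg, ← hlc hcoh hinv, ← hO, hKeuler, Groth.L22.Inter.eulerCharLE_eq (k := K) (X := G) (d := 1)
      (by rw [Nat.cast_one]; exact hGdim.le)]
    ring
  rw [← hdeg, Groth.Agent.S1641.result κ P (le_of_le_of_eq hPdim Nat.cast_one) 1 _
    (Groth.L22.CurveDeg.Det.isFinLocFreeOfRank_one_of_isInvertible (Groth.L18.Ample.isInvertible_pullback ι hinv))]
  haveI : Finite (irreducibleComponents P) := NoetherianSpace.finite_irreducibleComponents.to_subtype
  haveI : Fintype (irreducibleComponents P) := Fintype.ofFinite _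
  rw [finsum_eq_sum_of_fintype]
  calc (Set.ncard (Models.fibreComponents R Y) : ℤ)
      ≤ ∑ _Z : irreducibleComponents P, (1 : ℤ) := by
        have hsub : Models.fibreComponents R Y ⊆ (fun Z => ι '' Z) '' irreducibleComponents P := by
          intro S hS
          have hSr : S ⊆ Set.range ι := hS.1.2.trans (Groth.L05.GeomMult.range_fst_eq (X := Y)).ge
          have hirr : IsIrreducible (ι ⁻¹' S) := by
            refine ⟨hS.1.1.nonempty.preimage' hSr, fun u v hu hv => ?_⟩
            rintro ⟨a, haS, hau⟩ ⟨b, hbS, hbv⟩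
            obtain ⟨u', hu', rfl⟩ := ι.isEmbedding.isInducing.isOpen_iff.1 hu
            obtain ⟨v', hv', rfl⟩ := ι.isEmbedding.isInducing.isOpen_iff.1 hv
            obtain ⟨c, hcS, hcu, hcv⟩ := hS.1.1.2 u' v' hu' hv' ⟨_, haS, hau⟩ ⟨_, hbS, hbv⟩
            obtain ⟨d, rfl⟩ := hSr hcS
            exact ⟨d, hcS, hcu, hcv⟩
          obtain ⟨W, hW, hle⟩ := exists_mem_irreducibleComponents_subset_of_isIrreducible _ hirr
          refine ⟨W, hW, ?_⟩
          have hle' : S ⊆ ι '' W := fun z hz => by
            obtain ⟨d, rfl⟩ := hSr hz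
            exact ⟨d, hle hz, rfl⟩
          refine (hS.2 ⟨hW.1.image _ ι.continuous.continuousOn, ?_⟩ hle').antisymm hle'
          rintro _ ⟨d, -, rfl⟩
          exact (Groth.L05.GeomMult.range_fst_eq (X := Y)).le ⟨d, rfl⟩
        have h := (Set.ncard_le_ncard hsub (Set.toFinite _)).trans (Set.ncard_image_le (Set.toFinite _))
        rw [Finset.sum_const, Finset.card_univ, nsmul_eq_mul, mul_one, ← Nat.card_eq_fintype_card]
        exact_mod_cast h
    _ ≤ _ := by
        refine Finset.sum_le_sum fun Z _ => ?_
        rw [if_pos (Groth.L05.GeomMult.dim_component hdim Z.2)]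
        obtain ⟨hr, hCint⟩ := Groth.L19.CurveSec.isIntegral_component (X := P) Z.1 Z.2
        haveI := hCint
        let k₀ := (P.irreducibleComponentIdeal Z.1 Z.2).radical.subschemeι
        letI : (P.irreducibleComponentIdeal Z.1 Z.2).radical.subscheme.Over (Spec (CommRingCat.of κ)) :=
          ⟨k₀ ≫ (P ↘ Spec (CommRingCat.of κ))⟩
        haveI : IsProper ((P.irreducibleComponentIdeal Z.1 Z.2).radical.subscheme ↘ Spec (CommRingCat.of κ)) :=
          inferInstanceAs (IsProper (k₀ ≫ (P ↘ Spec (CommRingCat.of κ))))
        have hCdim : topologicalKrullDim (P.irreducibleComponentIdeal Z.1 Z.2).radical.subscheme = 1 := by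
          rw [IsHomeomorph.topologicalKrullDim_eq _
            (k₀.isClosedEmbedding.isEmbedding.toHomeomorph.trans (Homeomorph.setCongr hr)).isHomeomorph]
          exact Groth.L05.GeomMult.dim_component hdim Z.2
        have hpos := (Groth.Agent.S1530.result κ _ hCdim _
          (Groth.L18.Ample.isInvertible_pullback k₀ (Groth.L18.Ample.isInvertible_pullback ι hinv))).1
          (Groth.L18.Ample.isAmple_pullback_of_isAffineHom k₀ (Groth.L18.Ample.isAmple_pullback_of_isAffineHom ι hamp))
        have hlen : 1 ≤ (Module.length (P.presheaf.stalk Z.2.1.genericPoint)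
            (P.presheaf.stalk Z.2.1.genericPoint)).toNat := by
          set z := Z.2.1.genericPoint
          have hz0 := Groth.L22.CartierDecomp.dim_eq_zero_of_maximal (X := P) (y := z) fun y' hy' => by
            have hgz : IsGenericPoint z Z.1 := by
              have h := Z.2.1.isGenericPoint_genericPoint_closure
              rwa [(isClosed_of_mem_irreducibleComponents _ Z.2).closure_eq] at h
            have hsub' : Z.1 ⊆ closure {y'} := hgz.def ▸ closure_minimal
              (Set.singleton_subset_iff.2 hy'.mem_closure) isClosed_closure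
            have hmax := Z.2.2 isIrreducible_singleton.closure hsub'
            exact (hy'.antisymm (hgz.specializes (hmax (subset_closure rfl)))).eq
          haveI : IsArtinianRing (P.presheaf.stalk z) := by
            haveI : Ring.KrullDimLE 0 (P.presheaf.stalk z) := Ring.krullDimLE_iff.2 (by simp [hz0])
            exact IsNoetherianRing.isArtinianRing_of_krullDimLE_zero
          refine Nat.one_le_iff_ne_zero.2 fun h0 => ?_
          rcases ENat.toNat_eq_zero.1 h0 with h0 | h0
          · exact not_subsingleton (P.presheaf.stalk z) (Module.length_eq_zero_iff.1 h0)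
          · exact Module.length_ne_top h0
        exact one_le_mul_of_one_le_of_one_le (by exact_mod_cast hlen) (by exact_mod_cast hpos)

end Groth.L05.ArCanon
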