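import Groth.Agent.L13.Canon.VertDegree
import Groth.Agent.L05.CanonBC.Main
import Groth.Agent.L05.CanonBC.Codim
import Groth.Agent.L16.ProjSpace.StdSmooth

/-!
# Euler characteristics of canonical sheaves of projective curves
-/

set_option autoImplicit false
set_option linter.style.haveILetI false
set_option linter.unusedSectionVars false
set_option backward.isDefEq.respectTransparency false
set_option backward.isDefEq.respectTransparency.types false

universe u

open CategoryTheory CategoryTheory.Limits AlgebraicGeometry TopologicalSpace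

noncomputable section

namespace Groth.L05.ArCanon

open Groth.L22.CurveDeg.Det Groth.L22.Adjunction
open Groth.L00.Tensor (tensorIso tensorAssoc tensorComm tensorUnitRight tensorUnitLeft)

/-- An integral projective curve with a canonical sheaf has `χ(ω) = -χ(O)`. -/
theorem euler_isCanonical_curve {k : Type u} [Field k] {Y : Scheme.{u}} [Y.Over (Spec (CommRingCat.of k))]
    [IsIntegral Y] (hd : topologicalKrullDim Y = 1) {N : ℕ} (ιk : Y ⟶ CohB1.ProjSpace N k) [IsClosedImmersion ιk]
    (hιk : ιk ≫ CohB1.ProjSpace.toSpec N k = Y ↘ Spec (CommRingCat.of k))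
    {M : Y.Modules} (hM : Canon.IsCanonical (Y ↘ Spec (CommRingCat.of k)) M) :
    Curv2.euler k Y M = -Curv2.euler k Y (Coh.structureModule Y) := by
  haveI : IsNoetherianRing (CommRingCat.of k) := inferInstanceAs (IsNoetherianRing k)
  let p := CohB1.ProjSpace.toSpec N k
  haveI := Groth.L22.PDual.proper N k
  haveI : Smooth p := SmoothOfRelativeDimension.smooth N _
  haveI : IsLocallyNoetherian (CohB1.ProjSpace N k) := LocallyOfFiniteType.isLocallyNoetherian p
  obtain ⟨Z, i, g, c₀, n₀, hig, hi, hg, hiqc, hgqs, hvia⟩ := hM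
  haveI := hiqc; haveI := hgqs; haveI := hg
  obtain ⟨c, hc⟩ := Groth.L05.CanonBC.exists_ofCodim_of_factor (n₁ := n₀) (n := N) i g hi ιk p (hιk.trans hig.symm)
  -- the codimension at the generic point
  have hN : c + 1 = N := by
    let η := genericPoint Y
    obtain ⟨⟨U, hU⟩, hz, hcl, rs, hlen, hrs, hker⟩ := hc.2 η
    letI : Algebra Γ(CohB1.ProjSpace N k, U) ((CohB1.ProjSpace N k).presheaf.stalk (ιk η)) :=
      ((CohB1.ProjSpace N k).presheaf.germ U (ιk η) hz).hom.toAlgebra
    haveI := hU.isLocalization_stalk ⟨ιk η, hz⟩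
    haveI : IsNoetherianRing Γ(CohB1.ProjSpace N k, U) := IsLocallyNoetherian.component_noetherian ⟨U, hU⟩
    have hk := Groth.L14.RegImmStalk.ker_stalkMap ιk hU hcl η hz
    rw [hker, Ideal.map_ofList] at hk
    let L := (CohB1.ProjSpace N k).presheaf.stalk (ιk η)
    have hle : Ideal.ofList rs ≤ (hU.primeIdealOf ⟨ιk η, hz⟩).asIdeal := fun a ha => by
      refine (IsLocalization.AtPrime.to_map_mem_maximal_iff L _ a).mp
        (IsLocalRing.le_maximalIdeal (RingHom.ker_ne_top _) (hk.ge ?_))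
      rw [← Ideal.map_ofList]
      exact Ideal.mem_map_of_mem _ ha
    have hreg : RingTheory.Sequence.IsRegular L (rs.map ((CohB1.ProjSpace N k).presheaf.germ U (ιk η) hz).hom) := by
      refine ⟨Groth.L14.RegImmStalk.isWeaklyRegular_of_kind _ hrs _ hle L, fun htop => ?_⟩
      rw [smul_eq_mul, Ideal.mul_top, ← hk] at htop
      exact RingHom.ker_ne_top _ htop.symm
    have h0 : ringKrullDim (Y.presheaf.stalk η) = 0 :=
      ringKrullDim_eq_zero_of_isField (Field.toIsField Y.functionField)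
    have hdim : ringKrullDim L = (c : WithBot ℕ∞) := by
      rw [← ringKrullDim_add_length_eq_ringKrullDim_of_isRegular _ hreg, List.length_map, hlen,
        ringKrullDim_eq_of_ringEquiv ((Ideal.quotEquivOfEq hk.symm).trans
          (RingHom.quotientKerEquivOfSurjective (Scheme.Hom.stalkMap_surjective ιk η))), h0, zero_add]
    letI : (CohB1.ProjSpace N k).Over (Spec (CommRingCat.of k)) := ⟨p⟩
    haveI : SmoothOfRelativeDimension N (CohB1.ProjSpace N k ↘ Spec (CommRingCat.of k)) :=
      (inferInstance : SmoothOfRelativeDimension N (CohB1.ProjSpace.toSpec N k))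
    haveI : LocallyOfFiniteType (CohB1.ProjSpace N k ↘ Spec (CommRingCat.of k)) :=
      inferInstanceAs (LocallyOfFiniteType p)
    obtain ⟨a, b, ha, hb, hloc⟩ := Groth.L22.SchemeDim.exists_localDim k (CohB1.ProjSpace N k) (ιk η)
    obtain ⟨m, hm, htr⟩ := Groth.L22.SchemeDim.exists_dim_closure_eq_trdeg k (CohB1.ProjSpace N k) (ιk η)
    obtain rfl : a = m := by exact_mod_cast ha.symm.trans htr
    have hcl' : topologicalKrullDim (closure ({ιk η} : Set ↥(CohB1.ProjSpace N k))) = 1 := by
      refine (Groth.L22.SchemeDim.topologicalKrullDim_eq_of_isEmbedding (f := ιk) ιk.isEmbedding ?_).trans hd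
      rw [← Set.image_univ, ← (genericPoint_spec Y).def, ← ιk.isClosedEmbedding.closure_image_eq, Set.image_singleton]
    have e1 : a = 1 := by exact_mod_cast hm.symm.trans hcl'
    have e2 : b = c := by exact_mod_cast hb.symm.trans hdim
    have e3 : a + b = N := by
      exact_mod_cast hloc.symm.trans (Groth.L22.Adjunction.localDim_eq k N (CohB1.ProjSpace N k) (ιk η))
    omega
  -- the canonical sheaf through this immersion
  obtain ⟨DC, hDC, hDCi⟩ := exists_isExtPow (Groth.L13.Canon.isFinLocFreeOfRank_conormal ιk hc)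
  obtain ⟨DΩ, hDΩ, -⟩ := exists_isExtPow (Groth.L02.Canon.isFinLocFreeOfRank_omega (f := p) N)
  obtain ⟨DC', -, ⟨e⟩⟩ := Groth.L08.Cube.exists_inverse hDCi
  let ω₀ := CohB1.tensorMod ((Scheme.Modules.pullback ιk).obj DΩ) DC'
  let r₀ : CohB1.tensorMod ω₀ DC ≅ (Scheme.Modules.pullback ιk).obj DΩ :=
    tensorAssoc _ _ _ ≪≫ tensorIso (Iso.refl _) (tensorComm _ _ ≪≫ e) ≪≫ tensorUnitRight _
  obtain ⟨w⟩ := Groth.L13.Canon.nonempty_iso_of_isCanonicalVia i g ιk p (hig.trans hιk.symm) hi hc hvia
    (show Canon.IsCanonicalVia ιk p c N ω₀ from ⟨DC, DΩ, hDC, hDΩ, ⟨r₀⟩⟩)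
  have hviaM : Canon.IsCanonicalVia ιk p c N M := ⟨DC, DΩ, hDC, hDΩ, ⟨tensorIso w (Iso.refl _) ≪≫ r₀⟩⟩
  refine (Groth.L13.Canon.euler_canonicalVia_curve hd hN ιk hιk hc (fun S hS => ?_) (fun x => ?_) hviaM).2
  · obtain rfl : S = Set.univ := (hS.eq_of_ge (IrreducibleSpace.isIrreducible_univ Y) (Set.subset_univ _)).symm
    rw [IsHomeomorph.topologicalKrullDim_eq _ (Homeomorph.Set.univ Y).isHomeomorph, hd,
      show N - c = 1 by omega, Nat.cast_one]
  · obtain ⟨U, hz, -, rs, hlen, -, hker⟩ := hc.2 x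
    refine ⟨U, hz, fun l => rs.get (l.cast hlen.symm), ?_⟩
    rw [Scheme.Hom.ker_apply, hker, Ideal.ofList]
    refine congrArg Ideal.span (Set.ext fun a => ?_)
    show a ∈ rs ↔ _
    rw [List.mem_iff_get]
    exact ⟨fun ⟨l, hl⟩ => ⟨l.cast hlen, by simpa using hl⟩, fun ⟨l, hl⟩ => ⟨_, hl⟩⟩

end Groth.L05.ArCanon
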