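import Groth.Agent.S13321
import Groth.Agent.S13316
import Groth.Agent.S3344
import Groth.Agent.S13457
import Groth.Agent.L05.CanonBC.SmoothOpen
import Groth.Agent.L05.CanonBC.Main
import Groth.Agent.L05.InterPair.ClassApps
import Groth.Agent.L05.InterPair.Global
import Groth.Agent.L05.Models.CurveFacts
import Groth.Agent.L05.GeomMult.Components
import Groth.Agent.L21.SmoothCurveDim
import Groth.Agent.L08.Cube.FibreFun

/-!
# The canonical sheaf of a minimal elliptic surface with a section is trivial
-/

set_option autoImplicit false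
set_option linter.style.haveILetI false
set_option backward.isDefEq.respectTransparency false
set_option backward.isDefEq.respectTransparency.types false

universe u

open CategoryTheory CategoryTheory.Limits AlgebraicGeometry TopologicalSpace

noncomputable section

namespace Groth.L05.ArCanon

attribute [local instance] Groth.L08.Cube.clMonoid

/-- A canonical sheaf of a smooth proper geometrically irreducible curve with vanishing Euler
characteristic is trivial. -/
theorem nonempty_trivial_canonical_genusOne {k : Type u} [Field k] {C : Scheme.{u}}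
    (f : C ⟶ Spec (CommRingCat.of k)) [IsProper f] [Smooth f] [GeometricallyIrreducible f]
    (hC : Curve.IsSmoothProperCurve k C f)
    (hχ : letI : C.Over (Spec (CommRingCat.of k)) := ⟨f⟩
      FGA.eulerCharLE k C (Coh.structureModule C) 1 = 0)
    {ω : C.Modules} (hω : Canon.IsCanonical f ω) : Nonempty (ω ≅ Coh.structureModule C) := by
  letI : C.Over (Spec (CommRingCat.of k)) := ⟨f⟩
  haveI : IsProper (C ↘ Spec (CommRingCat.of k)) := ‹IsProper f›
  haveI : Smooth (C ↘ Spec (CommRingCat.of k)) := ‹Smooth f›
  haveI : GeometricallyConnected (C ↘ Spec (CommRingCat.of k)) := inferInstanceAs (GeometricallyConnected f)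
  haveI : IsIntegral C := hC.2.2.1
  haveI : GeometricallyIntegral f := Groth.L21.Disc.geometricallyIntegral_of_smooth f
  haveI : SmoothOfRelativeDimension 1 f := Groth.L21.SmoothCurve.smoothOfRelativeDimension_one f hC.2.2.2
  have hΩ := Groth.L05.CanonBC.isTopDiff_of_smooth (d := 1) hω
  obtain ⟨e⟩ := Groth.L12.ExtSh.nonempty_iso_of_isExtPow hΩ (Groth.L12.Kvb.isExtPow_one (Omega.sheaf f))
  have h0 : Module.finrank k (Coh.HH C (Coh.structureModule C) 0) = 1 :=
    Groth.L08.Cube.finrank_HH_zero_structure f (Groth.L08.Cube.bijective_toGlobal_of_geometric f)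
  have hg : Curv2.genus k C = 1 := by
    simp only [FGA.eulerCharLE, Finset.sum_range_succ, Finset.sum_range_zero, pow_zero, pow_one, h0,
      Nat.cast_one] at hχ
    show Module.finrank k (Coh.HH C (Coh.structureModule C) 1) = 1
    omega
  obtain ⟨e'⟩ := Groth.Agent.S13457.result k C hC.2.2.2 (Coh.structureModule C)
    (Groth.L18.Ample.isInvertible_structureModule C)
    (by rw [Groth.L22.CurveDeg.deg_structure, hg]; norm_num) (by rw [hg, h0])
  exact ⟨e ≪≫ e'.symm⟩

/-- The canonical sheaf of a relatively minimal genus one surface with a section is trivial. -/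
theorem canonical_trivial_of_section {R : Type u} [CommRing R] [IsDomain R] [IsDiscreteValuationRing R]
    (X : Over (Spec (CommRingCat.of R))) (hX : ArSurf.IsArithSurface R X)
    (hmin : Neron.IsRelMinimalRegularModel R X)
    [Smooth ((Neron.genericFibre R).obj X).hom] [GeometricallyIrreducible ((Neron.genericFibre R).obj X).hom]
    (hg : FGA.eulerCharLE (FractionRing R) ((Neron.genericFibre R).obj X).left
      (Coh.structureModule ((Neron.genericFibre R).obj X).left) 1 = 0)
    (σ : Spec (CommRingCat.of R) ⟶ X.left) (hσ : σ ≫ X.hom = 𝟙 _)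
    (ω : X.left.Modules) (hω : Canon.IsCanonical X.hom ω) :
    Nonempty (ω ≅ Coh.structureModule X.left) := by
  classical
  haveI : IsNoetherianRing (CommRingCat.of R) := inferInstanceAs (IsNoetherianRing R)
  haveI : IsProper X.hom := Groth.L05.RelMinExists.isProper_of_projective hX.2.2.2.2
  haveI : IsLocallyNoetherian X.left := LocallyOfFiniteType.isLocallyNoetherian X.hom
  haveI := hX.2.1
  haveI := hX.2.2.2.1
  let C := ((Neron.genericFibre R).obj X).left
  let f : C ⟶ Spec (CommRingCat.of (FractionRing R)) := ((Neron.genericFibre R).obj X).hom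
  let g : C ⟶ X.left := pullback.fst X.hom (Neron.genPt R)
  have hpb : IsPullback g f X.hom (Neron.genPt R) := IsPullback.of_hasPullback _ _
  haveI : IsProper f := MorphismProperty.of_isPullback (P := @IsProper) hpb inferInstance
  haveI : Smooth f := ‹Smooth ((Neron.genericFibre R).obj X).hom›
  haveI : GeometricallyIrreducible f := ‹GeometricallyIrreducible ((Neron.genericFibre R).obj X).hom›
  haveI : Nonempty C := by
    obtain ⟨c, -⟩ := f.surjective (Classical.arbitrary (Spec (CommRingCat.of (FractionRing R))))
    exact ⟨c⟩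
  have hmodel : Models.IsRegularProperModel R X.left X.hom C f :=
    ⟨⟨hX.2.2.2.1, inferInstance, inferInstance, g, hpb⟩, inferInstance, hX.1⟩
  haveI : Flat (Neron.genPt R) := by
    haveI : IsOpenImmersion (Neron.genPt R) := Groth.L05.MinModel.isOpenImmersion_gen
    infer_instance
  obtain ⟨n, Γ, hΓ, -⟩ := Groth.L05.GeomMult.exists_componentList (X := X) hX.2.2.1
  obtain ⟨i₀, -⟩ := Groth.L05.FibreDecomp.exists_component hΓ (x := σ (IsLocalRing.closedPoint R))
    (by rw [Models.specialFibreSet, Set.mem_preimage, Set.mem_singleton_iff, ← Scheme.Hom.comp_apply, hσ]; rfl)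
  haveI : GeometricallyIntegral f := Groth.L21.Disc.geometricallyIntegral_of_smooth f
  have hC0 : Models.hRank (FractionRing R) C f (Coh.structureModule C) 0 = 1 := by
    letI : C.Over (Spec (CommRingCat.of (FractionRing R))) := ⟨f⟩
    exact Groth.L08.Cube.finrank_HH_zero_structure f (Groth.L08.Cube.bijective_toGlobal_of_geometric f)
  obtain ⟨hC, hH0⟩ := Groth.L05.Models.CurveFacts.isCurve R C f hC0 X.left X.hom hmodel Γ hΓ i₀
  haveI : IsIntegral C := hC.2.2.1
  -- the generic fibre
  have htriv : Nonempty ((Scheme.Modules.pullback g).obj ω ≅ Coh.structureModule C) :=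
    nonempty_trivial_canonical_genusOne f hC hg (Groth.L05.CanonBC.isCanonical_baseChange hpb (Or.inr inferInstance) hω)
  -- the closed fibre
  have hinter : ∀ i, ArSurf.inter R X ω (Γ i) = 0 := by
    have hnef := (Groth.Agent.S13321.result R X hX hg.le ω hω).1 hmin
    have hsum := Groth.Agent.S13316.result R X hX Γ hΓ ω hω
    rw [hg, mul_zero] at hsum
    intro i
    have h := (Finset.sum_eq_zero_iff_of_nonneg fun j _ => mul_nonneg (Int.natCast_nonneg _) (hnef (Γ j))).1 hsum i
      (Finset.mem_univ i)
    exact (mul_eq_zero.1 h).resolve_left (by exact_mod_cast (Groth.L05.InterPair.mult_pos hX.1 hΓ i).ne')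
  -- multiplicity one
  obtain ⟨⟨i₁, -, -, -, -, -, -, hmult⟩, -⟩ := Groth.Agent.S3344.result R C X.left f X.hom hC hH0 hmodel Γ hΓ
    (hpb.lift (Neron.genPt R ≫ σ) (𝟙 _) (by rw [Category.assoc, hσ, Category.comp_id, Category.id_comp]))
    (hpb.lift_snd _ _ _)
  have hgcd : Models.multGcd R X Γ = 1 :=
    Nat.dvd_one.1 (hmult ▸ Finset.gcd_dvd (Finset.mem_univ i₁))
  obtain ⟨L, hL⟩ := Groth.L05.InterPair.exists_inverses (X := X) hX.1 hΓ
  have S : Groth.L05.InterPair.Setup Γ L :=
    ⟨hX.1, hΓ, hL, Groth.L05.InterPair.isPreconnected_specialFibreSet R f X.hom hC hH0 hmodel,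
      Groth.L05.InterPair.surjective_toGlobal R C X.left f X.hom hH0 hmodel⟩
  have h := Groth.L05.InterPair.cl_eq_one_iff.2 (Groth.L05.InterPair.tensorPow_gcd_trivial S i₀.pos hpb
    (Groth.L13.Canon.isInvertible_of_isCanonical hω) htriv hinter)
  rw [hgcd, Groth.L08.Cube.cl_tensorPow, pow_one] at h
  exact Groth.L05.InterPair.cl_eq_one_iff.1 h

end Groth.L05.ArCanon
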