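import Groth.Agent.L05.ArCanon.Pullback
import Groth.Agent.L05.MinDesing.Arith
import Groth.Agent.L05.PtSeq.Birational
import Groth.Agent.L13.ArAdj.Exceptional
import Groth.Agent.S7922

/-!
# The canonical sheaf of the blow-up of a closed point
-/

set_option autoImplicit false
set_option linter.style.haveILetI false
set_option linter.unusedSectionVars false
set_option backward.isDefEq.respectTransparency false
set_option backward.isDefEq.respectTransparency.types false

universe u

open CategoryTheory CategoryTheory.Limits AlgebraicGeometry TopologicalSpace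

noncomputable section

namespace Groth.L05.ArCanon

open Groth.L05.InterPair
open Groth.L00.Tensor (tensorIso tensorAssoc tensorComm tensorUnitRight tensorUnitLeft)

variable {R : Type u} [CommRing R] [IsDomain R] [IsDiscreteValuationRing R]

/-- An inverse of a Cartier ideal is trivial along a morphism avoiding its support. -/
theorem nonempty_pullback_trivial_of_disjoint {Z W : Scheme.{u}} (g : W ⟶ Z) {D : Z.IdealSheafData}
    [IsIntegral W] (hD : BlowUp.IsEffCartierIdeal D) (hsupp : ∀ w, g w ∉ (D.support : Set Z))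
    {L : Z.Modules} (hL : ClSub.IsInverseOf L (ClSub.idealMod D)) :
    Nonempty ((Scheme.Modules.pullback g).obj L ≅ Coh.structureModule W) := by
  have h1 : D.comap g = 1 := by
    have hs : ∀ w, w ∉ ((D.comap g).support : Set W) := fun w hw => by
      rw [Scheme.IdealSheafData.support_comap] at hw
      exact hsupp w hw
    refine Scheme.IdealSheafData.ext (funext fun U => ?_)
    rw [Groth.L22.CartierDecomp.ideal_eq_top fun z _ => hs z]
    symm
    exact Groth.L22.CartierDecomp.ideal_eq_top fun z _ => by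
      show z ∉ ((⊤ : W.IdealSheafData).support : Set W)
      simp
  obtain ⟨α, -, hα, -⟩ := Groth.L07.PrinParts.exists_idealMap g D 1 h1.symm
  haveI := hα
  haveI : IsIso α := Groth.L03.InterLen.isIso_of_epi_invertible α
    (Groth.L18.Ample.isInvertible_pullback g ((Groth.Agent.L19.IdealInvertible.isEffCartier_iff _).2 hD))
    ((Groth.Agent.L19.IdealInvertible.isEffCartier_iff _).2 isEffCartier_one)
  obtain ⟨e⟩ := nonempty_idealMod_one (Z := W)
  obtain ⟨l⟩ := hL
  exact ⟨(tensorUnitRight _).symm ≪≫ tensorIso (Iso.refl _) (asIso α ≪≫ e).symm ≪≫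
    Groth.L29.DC.PullTensor.pullTensor g L _ ≪≫ (Scheme.Modules.pullback g).mapIso l ≪≫
    Groth.L29.LocFree.pullbackUnitIso g⟩

/-- `K_X = f^*K_Y + E` for the blow-up of a closed point. -/
theorem nonempty_canonical_pointBlow (Y : Over (Spec (CommRingCat.of R))) (hY : ArSurf.IsArithSurface R Y)
    (y : Y.left) (hy : IsClosed ({y} : Set Y.left)) (hys : Y.hom.base y = IsLocalRing.closedPoint R)
    {X : Scheme.{u}} (f : X ⟶ Y.left)
    (hf : BlowUp.IsBlowUp f (Scheme.IdealSheafData.vanishingIdeal ⟨{y}, hy⟩))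
    (E : ArSurf.VertComp R (Over.mk (f ≫ Y.hom)))
    (hE : Set.range (E.ι.base : E.curve.left → X) = f.base ⁻¹' {y})
    (L : X.Modules) (hL : ClSub.IsInverseOf L (ClSub.idealMod E.ι.ker))
    (ωY : Y.left.Modules) (hωY : Canon.IsCanonical Y.hom ωY)
    (ωX : X.Modules) (hωX : Canon.IsCanonical (f ≫ Y.hom) ωX) :
    Nonempty (ωX ≅ CohB1.tensorMod ((Scheme.Modules.pullback f).obj ωY) L) := by
  obtain ⟨hexc, ⟨e, -⟩, hlen, hself⟩ := Groth.Agent.S7922.result R Y hY y hy hys f hf E hE L hL
  obtain ⟨hrY, hiY, hdY, hfY, hpY⟩ := hY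
  haveI := hiY; haveI := hfY
  haveI : IsNoetherianRing (CommRingCat.of R) := inferInstanceAs (IsNoetherianRing R)
  haveI : IsProper Y.hom := Groth.L05.RelMinExists.isProper_of_projective hpY
  haveI : IsLocallyNoetherian Y.left := LocallyOfFiniteType.isLocallyNoetherian Y.hom
  haveI : CompactSpace Y.left := QuasiCompact.compactSpace_of_compactSpace Y.hom
  haveI : AlgebraicGeometry.IsNoetherian Y.left := {}
  have hb : Groth.L05.PtSeq.IsPtBlow f y hy :=
    ⟨hrY y, Groth.L05.PointBlowArith.dim_stalk_eq_two Y hdY y hy hys, hf⟩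
  have hYS : Groth.L05.PtSeq.IsRegSurf Y.left := ⟨hiY, inferInstance, hrY, hdY.le⟩
  obtain ⟨hiX, hiY', hXS, hgen, -⟩ := hYS.blowUp hb
  haveI := hiX
  haveI := hb.isProper
  haveI := hb.isIso_off
  have hne : genericPoint Y.left ≠ y := hYS.genericPoint_ne hb.2.1.ge
  let V : Y.left.Opens := ⟨{y}ᶜ, hy.isOpen_compl⟩
  have hX : ArSurf.IsArithSurface R (Over.mk (f ≫ Y.hom)) :=
    Groth.L05.MinDesing.isArithSurface_of_birational hdY hXS f ⟨V, ⟨genericPoint Y.left, hne⟩, hb.isIso_off⟩
  let X' : Over (Spec (CommRingCat.of R)) := Over.mk (f ≫ Y.hom)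
  haveI : IsProper X'.hom := inferInstanceAs (IsProper (f ≫ Y.hom))
  haveI : IsLocallyNoetherian X'.left := LocallyOfFiniteType.isLocallyNoetherian X'.hom
  haveI : IsIntegral X'.left := hiX
  haveI : Flat X'.hom := hX.2.2.2.1
  -- the numbers of the exceptional curve
  have hP1 : Groth.L13.CurveContr.IsP1 E := ⟨_, inferInstance, ⟨e.symm⟩⟩
  haveI := Groth.L13.CurveContr.subsingleton_h1_structure E hP1
  have h1 : Models.h1 R X' E = 0 := Module.finrank_zero_of_subsingleton
  have hKE : ArSurf.inter R X' ωX E = -(Models.wdeg R X' E : ℤ) := by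
    rw [Groth.L13.ArAdj.canonical_inter_eq hX E hL hωX, h1, hself]
    push_cast
    ring
  have hw : 0 < Models.wdeg R X' E := by
    refine Nat.pos_of_ne_zero fun h0 => ?_
    rw [h0, Nat.cast_zero] at hlen
    letI : Algebra R (Y.left.residueField y) := ((Y.left.residue y).hom.comp (Models.stalkHom R Y y)).toAlgebra
    exact not_subsingleton (Y.left.residueField y) (Module.length_eq_zero_iff.1 hlen)
  have hinvX : PicF.IsInvertible ωX := Groth.L13.Canon.isInvertible_of_isCanonical hωX
  have hinvY : PicF.IsInvertible ωY := Groth.L13.Canon.isInvertible_of_isCanonical hωY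
  have hinvF : PicF.IsInvertible ((Scheme.Modules.pullback f).obj ωY) := Groth.L18.Ample.isInvertible_pullback f hinvY
  have hinvL : PicF.IsInvertible L := isInvertible_of_cartier (X := X') hexc.1 hL
  have hinvT := Groth.L18.GenLoc.isInvertible_tensor hinvF hinvL
  obtain ⟨N, hN, ⟨eN⟩⟩ := Groth.L08.Cube.exists_inverse hinvT
  -- triviality off the exceptional curve
  let W : X.Opens := f ⁻¹ᵁ V
  haveI : Nonempty (W : Scheme.{u}) := ⟨⟨genericPoint X, show f (genericPoint X) ≠ y by rw [hgen]; exact hne⟩⟩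
  haveI : IsIntegral (W : Scheme.{u}) := isIntegral_of_isOpenImmersion W.ι
  have hsq : IsPullback (f ∣_ V) (W.ι ≫ f ≫ Y.hom) (V.ι ≫ Y.hom) (𝟙 _) :=
    IsPullback.of_horiz_isIso ⟨by rw [Category.comp_id, ← Category.assoc, morphismRestrict_ι, Category.assoc]⟩
  obtain ⟨w⟩ := Groth.L05.CanonBC.nonempty_iso_of_isCanonical
    (Groth.L05.CanonBC.isCanonical_baseChange hsq (Or.inr inferInstance)
      (Groth.L05.CanonBC.isCanonical_restrict hωY V))
    (Groth.L05.CanonBC.isCanonical_restrict hωX W)
  let w' : (Scheme.Modules.pullback W.ι).obj ((Scheme.Modules.pullback f).obj ωY) ≅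
      (Scheme.Modules.pullback W.ι).obj ωX :=
    (Scheme.Modules.pullbackComp W.ι f).app ωY ≪≫
      (Scheme.Modules.pullbackCongr (morphismRestrict_ι f V).symm).app ωY ≪≫
      ((Scheme.Modules.pullbackComp (f ∣_ V) V.ι).app ωY).symm ≪≫ w
  obtain ⟨l⟩ := nonempty_pullback_trivial_of_disjoint W.ι hexc.1 (fun x hx => by
    have hx' : W.ι x ∈ (E.ι.ker.support : Set X'.left) := hx
    rw [Groth.L05.FibreDecomp.support_ker] at hx'
    have h2 : f (W.ι x) = y := hE.le hx'
    have h3 : W.ι x ∈ W := by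
      have := Set.mem_range_self (f := W.ι) x
      rwa [Scheme.Opens.range_ι] at this
    exact h3 h2) hL
  have hdegF : ArSurf.inter R X' ((Scheme.Modules.pullback f).obj ωY) E = 0 := by
    obtain ⟨t⟩ := Groth.L13.PairBlow.nonempty_pullback_trivial (f := E.ι ≫ f) (y := y)
      (by rintro _ ⟨c, rfl⟩; exact hE.le ⟨c, rfl⟩)
      (hinvY |> Groth.L22.CurveDeg.Det.isFinLocFreeOfRank_one_of_isInvertible)
    haveI := isProper_curve E
    refine (curveDeg_congr (IsLocalRing.ResidueField R) E.dim_eq
      ((Scheme.Modules.pullbackComp E.ι f).app ωY ≪≫ t)).trans ?_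
    exact sub_self _
  obtain ⟨h⟩ := trivial_of_trivial_off X' hX (r := 1) (fun _ => E) (fun a b _ => Subsingleton.elim a b)
    (fun _ => L) (fun _ => hL)
    (fun c hc => by
      have hc0 : c 0 ≠ 0 := fun h0 => hc (funext fun i => by rw [Fin.fin_one_eq_zero i, h0]; rfl)
      simp only [Fintype.sum_prod_type, Fin.sum_univ_one]
      rw [hself]
      have : (0 : ℤ) < Models.wdeg R X' E := by exact_mod_cast hw
      nlinarith [mul_self_pos.2 hc0])
    (M := CohB1.tensorMod ωX N) (Groth.L18.GenLoc.isInvertible_tensor hinvX hN) W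
    (fun x hx => ⟨0, hE.ge (not_not.1 hx : f x = y)⟩)
    ⟨(Groth.L29.DC.PullTensor.pullTensor W.ι ωX N).symm ≪≫
      tensorIso (w'.symm ≪≫ (tensorUnitRight _).symm ≪≫ tensorIso (Iso.refl _) l.symm ≪≫
        Groth.L29.DC.PullTensor.pullTensor W.ι _ L) (Iso.refl _) ≪≫
      Groth.L29.DC.PullTensor.pullTensor W.ι _ N ≪≫ (Scheme.Modules.pullback W.ι).mapIso eN ≪≫
      Groth.L29.LocFree.pullbackUnitIso W.ι⟩
    (fun _ => by
      have h2 := inter_congr (X := X') E eN
      rw [inter_tensor (X := X') _ hinvT hN, inter_tensor (X := X') _ hinvF hinvL, hdegF, show ArSurf.inter R X' L E = -(Models.wdeg R X' E : ℤ) from hself] at h2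
      have h3 : ArSurf.inter R X' (Coh.structureModule X) E = 0 := inter_unit (X := X') E
      rw [h3] at h2
      rw [inter_tensor (X := X') _ hinvX hN, hKE]
      omega)
  exact Groth.L03.BlowPt.nonempty_iso_of_inverse h eN

end Groth.L05.ArCanon
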