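import Groth.Agent.L05.ArCanon.Vertical
import Groth.Agent.L05.InterPair.Negative
import Groth.Agent.L05.InterPair.ClassApps
import Groth.Agent.L13.Canon.VertDegree
import Groth.Agent.L05.GeomMult.Components
import Groth.Agent.L05.RelMinExists.Main
import Groth.Agent.L05.CanonBC.Main
import Groth.Agent.L05.CanonBC.SmoothOpen
import Groth.Agent.L13.CurveContr.Main
import Groth.Agent.L13.PairBlow.Contract
import Groth.Agent.L16.Connected.AppIso
import Groth.Agent.L02.Canon.Pushforward
import Groth.Agent.L05.EulerDiv.PowerFibre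
import Groth.Agent.L00.TensorMod

/-!
# Canonical sheaves and contractions of curves orthogonal to the canonical sheaf
-/

set_option autoImplicit false
set_option linter.style.haveILetI false
set_option linter.unusedSectionVars false
set_option backward.isDefEq.respectTransparency false
set_option backward.isDefEq.respectTransparency.types false

universe u

open CategoryTheory CategoryTheory.Limits AlgebraicGeometry TopologicalSpace

noncomputable section

namespace Groth.L05.ArCanon

open Groth.L05.InterPair Groth.L05.FibreDecomp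
open Groth.L00.Tensor (tensorIso tensorAssoc tensorComm tensorUnitRight tensorUnitLeft)

variable {R : Type u} [CommRing R] [IsDomain R] [IsDiscreteValuationRing R]

theorem inter_multiTwist {X : Over (Spec (CommRingCat.of R))} [IsLocallyNoetherian X.left] [IsProper X.hom]
    [IsIntegral X.left] [Flat X.hom] {n : ℕ} {L : Fin n → X.left.Modules} (hinv : ∀ i, PicF.IsInvertible (L i))
    (E : ArSurf.VertComp R X) (a : Fin n → ℕ) :
    ArSurf.inter R X (FGA.multiTwist L a) E = ∑ i, (a i : ℤ) * ArSurf.inter R X (L i) E := by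
  have hpow : ∀ (A : X.left.Modules), PicF.IsInvertible A → ∀ m : ℕ,
      PicF.IsInvertible (CohB1.tensorPow A m) ∧
        ArSurf.inter R X (CohB1.tensorPow A m) E = m * ArSurf.inter R X A E := by
    intro A hA m
    induction m with
    | zero => exact ⟨Groth.L18.Ample.isInvertible_structureModule _, by
        rw [Nat.cast_zero, zero_mul]; exact inter_unit E⟩
    | succ m ih =>
      refine ⟨Groth.L18.GenLoc.isInvertible_tensor ih.1 hA, ?_⟩
      show ArSurf.inter R X (CohB1.tensorMod _ A) E = _
      rw [inter_tensor E ih.1 hA, ih.2]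
      push_cast
      ring
  have : ∀ l : List (Fin n), PicF.IsInvertible (FGA.tensorList (l.map fun i => CohB1.tensorPow (L i) (a i))) ∧
      ArSurf.inter R X (FGA.tensorList (l.map fun i => CohB1.tensorPow (L i) (a i))) E =
        (l.map fun i => (a i : ℤ) * ArSurf.inter R X (L i) E).sum := by
    intro l
    induction l with
    | nil => exact ⟨Groth.L18.Ample.isInvertible_structureModule _, inter_unit E⟩
    | cons i l ih =>
      refine ⟨Groth.L18.GenLoc.isInvertible_tensor (hpow _ (hinv i) _).1 ih.1, ?_⟩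
      show ArSurf.inter R X (CohB1.tensorMod _ (FGA.tensorList _)) E = _
      rw [inter_tensor E (hpow _ (hinv i) _).1 ih.1, ih.2, (hpow _ (hinv i) _).2]
      simp
  rw [FGA.multiTwist, (this _).2, ← List.ofFn_eq_map, List.sum_ofFn]

/-- An invertible module which is trivial off a negative definite configuration and of degree zero on
it is trivial. -/
theorem trivial_of_trivial_off (X : Over (Spec (CommRingCat.of R))) (hX : ArSurf.IsArithSurface R X)
    {r : ℕ} (Γ : Fin r → ArSurf.VertComp R X)
    (hΓ : Function.Injective fun i => Set.range ((Γ i).ι.base : (Γ i).curve.left → X.left))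
    (L : Fin r → X.left.Modules) (hL : ∀ j, ClSub.IsInverseOf (L j) (ClSub.idealMod (Γ j).ι.ker))
    (hneg : ∀ c : Fin r → ℤ, c ≠ 0 →
      (Finset.univ : Finset (Fin r × Fin r)).sum (fun p => c p.1 * c p.2 * ArSurf.inter R X (L p.2) (Γ p.1)) < 0)
    {M : X.left.Modules} (hM : PicF.IsInvertible M) (W : X.left.Opens)
    (hW : ∀ x, x ∉ W → ∃ i, x ∈ Set.range ((Γ i).ι.base : (Γ i).curve.left → X.left))
    (htriv : Nonempty ((Scheme.Modules.pullback W.ι).obj M ≅ Coh.structureModule (W : Scheme.{u})))
    (hdeg : ∀ i, ArSurf.inter R X M (Γ i) = 0) : Nonempty (M ≅ Coh.structureModule X.left) := by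
  classical
  haveI : IsProper X.hom := Groth.L05.RelMinExists.isProper_of_projective hX.2.2.2.2
  haveI : IsLocallyNoetherian X.left := LocallyOfFiniteType.isLocallyNoetherian X.hom
  haveI := hX.2.1
  haveI := hX.2.2.2.1
  have hreg : Models.IsRegularScheme X.left := hX.1
  have hdim := hX.2.2.1
  obtain ⟨n, Γs, hΓs, -⟩ := Groth.L05.GeomMult.exists_componentList (X := X) hdim
  obtain ⟨L', hL'⟩ := exists_inverses (X := X) hreg hΓs
  have hinv : ∀ i, PicF.IsInvertible (L' i) := fun i => isInvertible_of_cartier (isEffCartier hreg hΓs i) (hL' i)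
  have hspecial : ∀ (E : ArSurf.VertComp R X) (c : E.curve.left), E.ι c ∈ Models.specialFibreSet R X :=
    fun E c => Groth.L13.CurveContr.mem_special_of_vertComp X E c
  obtain ⟨p, q, hpq, ⟨e⟩⟩ := exists_twist_of_trivial_on_open hreg hΓs hL' hM W (fun x hx => by
    obtain ⟨i, c, rfl⟩ := hW x hx
    exact hspecial (Γ i) c) htriv
  -- the configuration inside the list of components
  have hσ : ∀ k, ∃ j, (Γ k).ι.ker = (Γs j).ι.ker := fun k => by
    obtain ⟨j, hj⟩ := exists_component hΓs (x := Models.genPtOf R X (Γ k)) (hspecial (Γ k) _)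
    rw [← support_ker] at hj
    exact ⟨j, eq_of_mem_support hreg hdim hj⟩
  choose σ hσ using hσ
  have hσinj : Function.Injective σ := fun a b h => hΓ (by
    show Set.range _ = Set.range _
    rw [← support_ker, ← support_ker, hσ a, hσ b, h])
  let z : Fin n → ℤ := fun j => (p j : ℤ) - q j
  have hz : ∀ j, j ∉ Set.range σ → p j = 0 ∧ q j = 0 := fun j hj => hpq j (by
    by_contra hnot
    obtain ⟨k, hk⟩ := hW _ hnot
    rw [← support_ker] at hk
    have h1 := eq_of_mem_support hreg hdim (Γ := Γs j) (Γ' := Γ k) hk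
    refine hj ⟨k, (eq_of_genPtOf_mem hΓs ?_).symm⟩
    rw [← hσ k, ← h1]
    exact (isGenericPoint_genPtOf (Γs j)).mem)
  have hinter : ∀ E, ArSurf.inter R X M E = ∑ k, z (σ k) * ArSurf.inter R X (L k) E := by
    intro E
    have h := inter_congr E e
    rw [inter_tensor E hM (isInvertible_multiTwist hinv q), inter_multiTwist hinv, inter_multiTwist hinv] at h
    rw [← eq_sub_iff_add_eq, ← Finset.sum_sub_distrib] at h
    rw [h]
    refine (Finset.sum_congr rfl fun j _ => (sub_mul (p j : ℤ) (q j : ℤ) _).symm).trans ?_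
    refine (Fintype.sum_of_injective σ hσinj _ _ (fun j hj => ?_) fun k => ?_).symm
    · rw [(hz j hj).1, (hz j hj).2]; simp
    · obtain ⟨ek⟩ := hL k
      obtain ⟨ej⟩ := hL' (σ k)
      obtain ⟨i⟩ := Groth.L03.BlowPt.nonempty_iso_of_inverse ek
        (tensorIso (Iso.refl _) (eqToIso (by rw [hσ k])) ≪≫ ej)
      rw [inter_congr E i]
  have hzero : (fun k => z (σ k)) = 0 := by
    by_contra hne
    refine absurd (hneg _ hne) (not_lt.2 (le_of_eq ?_))
    rw [Fintype.sum_prod_type]
    refine (Finset.sum_eq_zero fun k _ => ?_).symm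
    simp only [mul_assoc]
    rw [← Finset.mul_sum, ← hinter, hdeg, mul_zero]
  have hpeq : p = q := funext fun j => by
    by_cases hj : j ∈ Set.range σ
    · obtain ⟨k, rfl⟩ := hj
      exact_mod_cast sub_eq_zero.1 (congrFun hzero k)
    · rw [(hz j hj).1, (hz j hj).2]
  subst hpeq
  exact nonempty_cancel (isInvertible_multiTwist hinv p) (e ≪≫ (tensorUnitLeft _).symm)

/-- A canonical sheaf downstairs pulls back to the canonical sheaf upstairs. -/
theorem nonempty_pullback_canonical (X : Over (Spec (CommRingCat.of R))) (hX : ArSurf.IsArithSurface R X)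
    {r : ℕ} (Γ : Fin r → ArSurf.VertComp R X)
    (hΓ : Function.Injective fun i => Set.range ((Γ i).ι.base : (Γ i).curve.left → X.left))
    (L : Fin r → X.left.Modules) (hL : ∀ j, ClSub.IsInverseOf (L j) (ClSub.idealMod (Γ j).ι.ker))
    (hneg : ∀ c : Fin r → ℤ, c ≠ 0 →
      (Finset.univ : Finset (Fin r × Fin r)).sum (fun p => c p.1 * c p.2 * ArSurf.inter R X (L p.2) (Γ p.1)) < 0)
    (ωX : X.left.Modules) (hωX : Canon.IsCanonical X.hom ωX) (hK : ∀ i, ArSurf.inter R X ωX (Γ i) = 0)
    (Y : Over (Spec (CommRingCat.of R))) (f : X ⟶ Y) (hYpr : Neron.IsProjectiveOver R Y)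
    (hfpt : ∀ i, ∃ y : Y.left, Set.range (((Γ i).ι ≫ f.left).base : (Γ i).curve.left → Y.left) = {y})
    (hfpre : f.left.base ⁻¹' (f.left.base '' ⋃ i, Set.range (Γ i).ι.base) = ⋃ i, Set.range (Γ i).ι.base)
    (hfiso : ∀ V : Y.left.Opens, (V : Set Y.left) ∩ f.left.base '' (⋃ i, Set.range (Γ i).ι.base) = ∅ →
      IsIso (f.left ∣_ V))
    (ωY : Y.left.Modules) (hωY : Canon.IsCanonical Y.hom ωY) :
    Nonempty ((Scheme.Modules.pullback f.left).obj ωY ≅ ωX) := by
  haveI : IsNoetherianRing (CommRingCat.of R) := inferInstanceAs (IsNoetherianRing R)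
  haveI : IsProper X.hom := Groth.L05.RelMinExists.isProper_of_projective hX.2.2.2.2
  haveI : IsProper Y.hom := Groth.L05.RelMinExists.isProper_of_projective hYpr
  haveI : IsLocallyNoetherian X.left := LocallyOfFiniteType.isLocallyNoetherian X.hom
  haveI := hX.2.1
  haveI := hX.2.2.2.1
  have hclosed : IsClosed (f.left.base '' ⋃ i, Set.range (Γ i).ι.base) := by
    rw [Set.image_iUnion]
    refine isClosed_iUnion_of_finite fun i => ?_
    obtain ⟨y, hy⟩ := hfpt i
    haveI : IsProper (f.left ≫ Y.hom) := by rw [Over.w f]; infer_instance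
    haveI : IsProper f.left := IsProper.of_comp f.left Y.hom
    haveI := (Γ i).isClosedImmersion
    rw [← Set.range_comp]
    exact ((Γ i).ι ≫ f.left).isClosedMap.isClosed_range
  let V : Y.left.Opens := ⟨(f.left.base '' ⋃ i, Set.range (Γ i).ι.base)ᶜ, hclosed.isOpen_compl⟩
  haveI := hfiso V (Set.compl_inter_self _)
  let W : X.left.Opens := f.left ⁻¹ᵁ V
  have hW : ∀ x, x ∉ W → ∃ i, x ∈ Set.range ((Γ i).ι.base : (Γ i).curve.left → X.left) := fun x hx =>
    Set.mem_iUnion.1 (hfpre ▸ (not_not.1 hx : f.left x ∈ _) : x ∈ ⋃ i, Set.range (Γ i).ι.base)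
  have hinvX := Groth.L13.Canon.isInvertible_of_isCanonical hωX
  have hinvY := Groth.L18.Ample.isInvertible_pullback f.left (Groth.L13.Canon.isInvertible_of_isCanonical hωY)
  obtain ⟨N, hN, ⟨eN⟩⟩ := Groth.L08.Cube.exists_inverse hinvX
  have hsq : IsPullback (f.left ∣_ V) (W.ι ≫ X.hom) (V.ι ≫ Y.hom) (𝟙 _) :=
    IsPullback.of_horiz_isIso ⟨by
      rw [Category.comp_id, ← Category.assoc, morphismRestrict_ι, Category.assoc, Over.w f]⟩
  obtain ⟨w⟩ := Groth.L05.CanonBC.nonempty_iso_of_isCanonical
    (Groth.L05.CanonBC.isCanonical_baseChange hsq (Or.inr inferInstance)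
      (Groth.L05.CanonBC.isCanonical_restrict hωY V))
    (Groth.L05.CanonBC.isCanonical_restrict hωX W)
  let w' : (Scheme.Modules.pullback W.ι).obj ((Scheme.Modules.pullback f.left).obj ωY) ≅
      (Scheme.Modules.pullback W.ι).obj ωX :=
    (Scheme.Modules.pullbackComp W.ι f.left).app ωY ≪≫
      (Scheme.Modules.pullbackCongr (morphismRestrict_ι f.left V).symm).app ωY ≪≫
      ((Scheme.Modules.pullbackComp (f.left ∣_ V) V.ι).app ωY).symm ≪≫ w
  obtain ⟨h⟩ := trivial_of_trivial_off X hX Γ hΓ L hL hneg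
    (Groth.L18.GenLoc.isInvertible_tensor hinvY hN) W hW
    ⟨(Groth.L29.DC.PullTensor.pullTensor W.ι _ N).symm ≪≫ tensorIso w' (Iso.refl _) ≪≫
      Groth.L29.DC.PullTensor.pullTensor W.ι ωX N ≪≫ (Scheme.Modules.pullback W.ι).mapIso eN ≪≫
      Groth.L29.LocFree.pullbackUnitIso W.ι⟩
    (fun i => by
      have h1 : ArSurf.inter R X ((Scheme.Modules.pullback f.left).obj ωY) (Γ i) = 0 := by
        obtain ⟨y, hy⟩ := hfpt i
        obtain ⟨t⟩ := Groth.L13.PairBlow.nonempty_pullback_trivial (f := (Γ i).ι ≫ f.left) hy.le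
          (Groth.L13.Canon.isInvertible_of_isCanonical hωY |> Groth.L22.CurveDeg.Det.isFinLocFreeOfRank_one_of_isInvertible)
        haveI := isProper_curve (Γ i)
        refine (curveDeg_congr (IsLocalRing.ResidueField R) (Γ i).dim_eq
          ((Scheme.Modules.pullbackComp (Γ i).ι f.left).app ωY ≪≫ t)).trans ?_
        exact sub_self _
      have h2 := inter_congr (Γ i) eN
      rw [inter_tensor _ hinvX hN, hK, zero_add, inter_unit] at h2
      rw [inter_tensor _ hinvY hN, h1, h2, add_zero])
  exact Groth.L03.BlowPt.nonempty_iso_of_inverse h eN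

end Groth.L05.ArCanon

namespace Groth.L05.ArCanon

open Groth.L00.Tensor (tensorIso tensorAssoc tensorComm tensorUnitRight tensorUnitLeft)

variable {R : Type u} [CommRing R] [IsDomain R] [IsDiscreteValuationRing R]

/-- Functions upstairs of a contraction come from downstairs. -/
theorem isIso_app_contraction (X : Over (Spec (CommRingCat.of R))) (hX : ArSurf.IsArithSurface R X)
    {r : ℕ} (Γ : Fin r → ArSurf.VertComp R X)
    (Y : Over (Spec (CommRingCat.of R))) (f : X ⟶ Y)
    (hYint : IsIntegral Y.left) (hYnor : ∀ q : Y.left, IsIntegrallyClosed (Y.left.presheaf.stalk q))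
    (hYdim : topologicalKrullDim Y.left = 2) (hYpr : Neron.IsProjectiveOver R Y)
    (hfpt : ∀ i, ∃ y : Y.left, Set.range (((Γ i).ι ≫ f.left).base : (Γ i).curve.left → Y.left) = {y})
    (hfiso : ∀ V : Y.left.Opens, (V : Set Y.left) ∩ f.left.base '' (⋃ i, Set.range (Γ i).ι.base) = ∅ →
      IsIso (f.left ∣_ V)) (U : Y.left.Opens) : IsIso (f.left.app U) := by
  haveI : IsNoetherianRing (CommRingCat.of R) := inferInstanceAs (IsNoetherianRing R)
  haveI : IsProper X.hom := Groth.L05.RelMinExists.isProper_of_projective hX.2.2.2.2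
  haveI : IsProper Y.hom := Groth.L05.RelMinExists.isProper_of_projective hYpr
  haveI := hX.2.1
  haveI := hYint
  haveI : IsProper (f.left ≫ Y.hom) := by rw [Over.w f]; infer_instance
  haveI : IsProper f.left := IsProper.of_comp f.left Y.hom
  choose y hy using hfpt
  have hyc : ∀ i, IsClosed ({y i} : Set Y.left) := fun i => by
    haveI := (Γ i).isClosedImmersion
    rw [← hy i]
    exact ((Γ i).ι ≫ f.left).isClosedMap.isClosed_range
  have himg : f.left.base '' (⋃ i, Set.range (Γ i).ι.base) = ⋃ i, {y i} := by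
    rw [Set.image_iUnion]
    exact Set.iUnion_congr fun i => by rw [← Set.range_comp, ← hy i]; rfl
  let V : Y.left.Opens := ⟨(⋃ i, {y i})ᶜ, (isClosed_iUnion_of_finite hyc).isOpen_compl⟩
  haveI := hfiso V (by rw [himg]; exact Set.compl_inter_self _)
  have hgen : genericPoint Y.left ∈ V := by
    intro h
    obtain ⟨i, hi⟩ := Set.mem_iUnion.1 h
    haveI : Subsingleton Y.left := ⟨fun p q => by
      have hp : ∀ z : Y.left, z = y i := fun z =>
        ((Set.mem_singleton_iff.1 hi) ▸ genericPoint_specializes z).mem_closed (hyc i) rfl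
      rw [hp p, hp q]⟩
    haveI : DiscreteTopology Y.left := Subsingleton.discreteTopology
    have h0 := topologicalKrullDim_zero_of_discreteTopology Y.left
    rw [hYdim] at h0
    exact absurd h0 (by norm_num)
  obtain ⟨x₀, hx₀⟩ := (f.left ∣_ V).surjective ⟨genericPoint Y.left, hgen⟩
  have hfx : f.left x₀.1 = genericPoint Y.left := by rw [← morphismRestrict_base_coe, hx₀]
  have hξ : f.left (genericPoint X.left) = genericPoint Y.left :=
    (Specializes.antisymm (hfx ▸ (genericPoint_specializes x₀.1).map f.left.continuous) (genericPoint_specializes _)).eq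
  have hmem : genericPoint X.left ∈ f.left ⁻¹ᵁ V := by
    show f.left (genericPoint X.left) ∈ V; rw [hξ]; exact hgen
  have hbir : IsIso (f.left.stalkMap (genericPoint X.left)) :=
    ((MorphismProperty.isomorphisms CommRingCat).arrow_mk_iso_iff
      (morphismRestrictStalkMap f.left V ⟨_, hmem⟩)).1
      (inferInstance : IsIso ((f.left ∣_ V).stalkMap ⟨_, hmem⟩))
  have hff : Function.Bijective (Groth.L21.Curve.ffMap f.left hξ) := by
    haveI := hbir
    exact (ConcreteCategory.bijective_of_isIso (f.left.stalkMap (genericPoint X.left))).comp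
      (ConcreteCategory.bijective_of_isIso (Y.left.presheaf.stalkCongr (.of_eq hξ)).inv)
  exact Groth.L16.Connected.isIso_app_of_birational f.left hξ hYnor hff U

theorem isInvertible_tensorPow {Z : Scheme.{u}} {A : Z.Modules} (hA : PicF.IsInvertible A) :
    ∀ m : ℕ, PicF.IsInvertible (CohB1.tensorPow A m)
  | 0 => Groth.L18.Ample.isInvertible_structureModule _
  | m + 1 => Groth.L18.GenLoc.isInvertible_tensor (isInvertible_tensorPow hA m) hA

theorem nonempty_pullback_inverse {Z Z' : Scheme.{u}} (g : Z' ⟶ Z) {A A' : Z.Modules} {B B' : Z'.Modules}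
    (e : (Scheme.Modules.pullback g).obj A ≅ B) (hA : ClSub.IsInverseOf A' A) (hB : ClSub.IsInverseOf B' B) :
    Nonempty ((Scheme.Modules.pullback g).obj A' ≅ B') := by
  obtain ⟨a⟩ := hA
  obtain ⟨b⟩ := hB
  exact Groth.L03.BlowPt.nonempty_iso_of_inverse
    (tensorIso (Iso.refl _) e.symm ≪≫ Groth.L29.DC.PullTensor.pullTensor g A' A ≪≫
      (Scheme.Modules.pullback g).mapIso a ≪≫ Groth.L29.LocFree.pullbackUnitIso g) b

/-- Powers of a module pulled back along a contraction are recovered by pushforward. -/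
theorem nonempty_pullback_push_pow {Z Z' : Scheme.{u}} (g : Z' ⟶ Z) (happ : ∀ U : Z.Opens, IsIso (g.app U))
    {A : Z.Modules} (hA : PicF.IsInvertible A) {B : Z'.Modules}
    (e : (Scheme.Modules.pullback g).obj A ≅ B) (m : ℕ) :
    Nonempty ((Scheme.Modules.pullback g).obj (CohB1.tensorPow A m) ≅ CohB1.tensorPow B m) ∧
      Nonempty ((Scheme.Modules.pushforward g).obj (CohB1.tensorPow B m) ≅ CohB1.tensorPow A m) := by
  obtain ⟨a⟩ := Groth.L05.EulerDiv.nonempty_pullback_tensorPow g A m
  let φ := a ≪≫ Groth.L00.Tensor.tensorPowIso e m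
  haveI := Groth.L02.Canon.isIso_unit_of_isInvertible g
    (fun U => (ConcreteCategory.isIso_iff_bijective _).1 (happ U)) (CohB1.tensorPow A m)
    (isInvertible_tensorPow hA m)
  exact ⟨⟨φ⟩, ⟨(Scheme.Modules.pushforward g).mapIso φ.symm ≪≫
    (asIso ((Scheme.Modules.pullbackPushforwardAdjunction g).unit.app (CohB1.tensorPow A m))).symm⟩⟩

end Groth.L05.ArCanon
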