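import Groth.Agent.L05.InterPair.Vertical
import Groth.Agent.L05.InterPair.Twist

/-!
# Invertible modules trivial off some components of the closed fibre
-/

set_option autoImplicit false
set_option linter.style.haveILetI false
set_option linter.unusedSectionVars false
set_option backward.isDefEq.respectTransparency false

universe u

open CategoryTheory CategoryTheory.Limits AlgebraicGeometry TopologicalSpace

noncomputable section

namespace Groth.L05.ArCanon

open Groth.L05.InterPair Groth.L05.FibreDecomp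
open Groth.L18.Frame (rs ro rs_rs rs_self rs_smul ro_ro ro_self ro_mul IsFrame)
open Groth.L18.GenLoc (secOf genLocus_inf_eq)
open Groth.L00.Tensor (tensorIso tensorAssoc tensorComm tensorUnitRight tensorUnitLeft)

variable {R : Type u} [CommRing R] [IsDomain R] [IsDiscreteValuationRing R]
  {X : Over (Spec (CommRingCat.of R))} [IsLocallyNoetherian X.left] [Flat X.hom] [IsProper X.hom]
  [IsIntegral X.left] (hreg : Models.IsRegularScheme X.left) {n : ℕ} {Γs : Fin n → ArSurf.VertComp R X}
  (hΓ : Models.IsComponentList R X Γs)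

include hreg hΓ

/-- At the generic point of a component a vertical divisor is a power of the maximal ideal. -/
theorem stalkIdeal_div (a : Fin n → ℕ) (i : Fin n) (V : X.left.affineOpens)
    (h : Models.genPtOf R X (Γs i) ∈ V.1) :
    Groth.L22.Div.stalkIdeal (div Γs a) V (Models.genPtOf R X (Γs i)) h =
      IsLocalRing.maximalIdeal (X.left.presheaf.stalk (Models.genPtOf R X (Γs i))) ^ a i := by
  classical
  haveI := fun j => isIntegral_subscheme_ker (Γs j)
  rw [Groth.L22.Div.stalkIdeal, div, ideal_prod]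
  refine (map_prod (Ideal.mapHom (X.left.presheaf.germ V.1 _ h).hom) _ _).trans ?_
  refine (Finset.prod_eq_single i (fun j _ hji => ?_) fun h' => absurd (Finset.mem_univ i) h').trans ?_
  · show Ideal.map _ _ = _
    rw [Scheme.IdealSheafData.ideal_pow, Pi.pow_apply, Ideal.map_pow,
      show Ideal.map (X.left.presheaf.germ V.1 _ h).hom ((Γs j).ι.ker.ideal V) = ⊤ from
        stalkIdeal_eq_top _ V _ h fun h' => hji (eq_of_genPtOf_mem hΓ h').symm]
    exact (Ideal.top_pow _ _).trans Ideal.one_eq_top.symm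
  · show Ideal.map _ _ = _
    rw [Scheme.IdealSheafData.ideal_pow, Pi.pow_apply, Ideal.map_pow]
    exact congrArg (· ^ a i) (stalkIdeal_generic (Γs i).ι.ker V _ h (isGenericPoint_genPtOf (Γs i)))

/-- An invertible module trivial on an open containing the generic fibre differs from the structure
sheaf by the components outside of the open. -/
theorem exists_twist_of_trivial_on_open {L : Fin n → X.left.Modules}
    (hL : ∀ i, ClSub.IsInverseOf (L i) (ClSub.idealMod (Γs i).ι.ker))
    {M : X.left.Modules} (hM : PicF.IsInvertible M) (W : X.left.Opens)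
    (hW : ∀ x, x ∉ W → x ∈ Models.specialFibreSet R X)
    (htriv : Nonempty ((Scheme.Modules.pullback W.ι).obj M ≅ Coh.structureModule (W : Scheme.{u}))) :
    ∃ p q : Fin n → ℕ, (∀ i, Models.genPtOf R X (Γs i) ∈ W → p i = 0 ∧ q i = 0) ∧
      Nonempty (CohB1.tensorMod M (FGA.multiTwist L q) ≅ FGA.multiTwist L p) := by
  classical
  obtain ⟨ϖ, hϖ⟩ := IsDiscreteValuationRing.exists_irreducible R
  haveI : CompactSpace X.left := QuasiCompact.compactSpace_of_compactSpace X.hom
  let P : Γ(X.left, ⊤) := Coh.toGlobal X.hom ϖ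
  let U := X.left.basicOpen P
  have hgerm : ∀ x, (X.left.presheaf.germ ⊤ x trivial).hom P = Models.stalkHom R X x ϖ := fun x => rfl
  have hmemU : ∀ x, x ∈ U ↔ x ∉ Models.specialFibreSet R X := fun x => by
    rw [show (x ∈ U) = IsUnit ((X.left.presheaf.germ ⊤ x trivial).hom P) from
      propext (X.left.mem_basicOpen_top P x), hgerm, mem_specialFibreSet, hϖ.maximalIdeal_eq]
    refine ⟨fun hu h => h ϖ (Ideal.mem_span_singleton_self ϖ) hu, fun h => ?_⟩
    by_contra hu
    exact h fun c hc hcu => hu (isUnit_of_dvd_unit (map_dvd _ (Ideal.mem_span_singleton.1 hc)) hcu)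
  have hUW : U ≤ W := fun x hx => by_contra fun h => (hmemU x).1 hx (hW x h)
  have hUne : (U : Set X.left).Nonempty := by
    refine ⟨genericPoint X.left, (hmemU _).2 fun h => ?_⟩
    have h1 := mem_specialFibreSet.1 h ϖ (by rw [hϖ.maximalIdeal_eq]; exact Ideal.mem_span_singleton_self ϖ)
    haveI : IsDomain (X.left.presheaf.stalk (genericPoint X.left)) := by
      haveI := hreg (genericPoint X.left)
      exact Groth.L01.isDomain_of_regular _
    exact h1 (isUnit_iff_ne_zero (G₀ := X.left.functionField).2 (stalkHom_ne_zero _ hϖ.ne_zero))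
  obtain ⟨τ⟩ := htriv
  obtain ⟨σ, hσ⟩ := Groth.L21.Extend.exists_gen_of_iso _
    ((Scheme.Modules.restrictFunctorIsoPullback W.ι).app M ≪≫ τ)
  have hσ' : IsFrame M W σ := hσ
  have hσU : IsFrame M U (rs M hUW σ) := hσ'.mono hUW
  obtain ⟨N, T, hT⟩ := exists_section_extend hM P hUne hσU
  obtain ⟨c, hc⟩ := hσ'.exists_coeff le_rfl (rs M le_top T)
  rw [rs_self] at hc
  have hη : genericPoint X.left ∈ U := (genericPoint_spec X.left).mem_open_set_iff U.2 |>.2 (by simpa using hUne)
  have hcP : c = ro (le_top : W ≤ ⊤) (P ^ N) := by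
    haveI : Nonempty (U : Scheme.{u}) := ⟨⟨_, hη⟩⟩
    refine map_injective_of_isIntegral X.left (homOfLE hUW) ?_
    refine hσ'.inj hUW ?_
    show ro hUW c • rs M hUW σ = ro hUW (ro le_top (P ^ N)) • rs M hUW σ
    rw [← rs_smul, hc, rs_rs, hT, ro_ro]
  let s := Groth.L16.homOfSection M T
  have hs : secOf s = T := Groth.L18.GenLoc.secOf_homOfSection T
  have hgen : ∀ z ∈ U, z ∈ CohB1.genLocus M s := fun z hz => by
    have hTU : IsFrame M U (rs M le_top T) := by
      rw [hT]
      refine hσU.smul_unit ?_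
      rw [show ro (le_top : U ≤ ⊤) (P ^ N) = ro le_top P ^ N from map_pow _ _ _]
      exact (RingedSpace.isUnit_res_basicOpen X.left.toRingedSpace P).pow N
    have h := genLocus_inf_eq s hTU (a := 1) (by rw [one_smul, hs])
    rw [Scheme.basicOpen_of_isUnit _ isUnit_one] at h
    have hz' : z ∈ CohB1.genLocus M s ⊓ U := h.symm ▸ hz
    exact hz'.1
  set I := PicF2.zeroScheme M s
  have hI := Groth.L03.SurfAmple.isEffCartierIdeal_zeroScheme hM s (hgen _ hη)
  obtain ⟨eI⟩ := Groth.L03.SurfAmple.nonempty_tensor_zeroScheme hM s (hgen _ hη)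
  obtain ⟨e, he⟩ := exists_eq_div hreg hΓ hI fun z hz => by
    by_contra h
    exact (Groth.L22.ZeroScheme.support_zeroScheme hM s).le hz (hgen z ((hmemU z).2 h))
  have heW : ∀ i, Models.genPtOf R X (Γs i) ∈ W → e i = Models.mult R X (Γs i) * N := by
    intro i hi
    set ξ := Models.genPtOf R X (Γs i) with hξdef
    obtain ⟨_, ⟨V, hV, rfl⟩, hξV, hVW⟩ := X.left.isBasis_affineOpens.exists_subset_of_mem_open hi W.2
    let V' : X.left.affineOpens := ⟨V, hV⟩
    have hVW' : V ≤ W := hVW
    have hIV : I.ideal V' = (Models.specialFibreIdeal R X ^ N).ideal V' := by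
      rw [show I.ideal V' = _ from Groth.L03.SurfAmple.zeroScheme_ideal_span hM s (V := V')
          (c := ro hVW' c) (hσ'.mono hVW') (by rw [← rs_smul, hc, rs_rs, hs]),
        Scheme.IdealSheafData.ideal_pow, Pi.pow_apply, ideal_specialFibreIdeal, hϖ.maximalIdeal_eq,
        Ideal.map_span, Set.image_singleton, Ideal.span_singleton_pow, hcP, ro_ro]
      exact congrArg (fun t => Ideal.span {t}) (map_pow _ _ _)
    have h1 : Groth.L22.Div.stalkIdeal (div Γs e) V' ξ hξV =
        Groth.L22.Div.stalkIdeal (Models.specialFibreIdeal R X ^ N) V' ξ hξV := by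
      rw [← he, Groth.L22.Div.stalkIdeal, Groth.L22.Div.stalkIdeal, hIV]
    have hpow : Models.specialFibreIdeal R X ^ N = div Γs (fun j => Models.mult R X (Γs j) * N) := by
      rw [specialFibreIdeal_eq_prod hreg hΓ, ← Finset.prod_pow]
      exact Finset.prod_congr rfl fun j _ => (pow_mul _ _ _).symm
    rw [hpow, stalkIdeal_div hreg hΓ, stalkIdeal_div hreg hΓ] at h1
    haveI := hreg ξ
    haveI := Groth.L01.isDomain_of_regular (X.left.presheaf.stalk ξ)
    haveI := Groth.L10.RegUFD.isUFD (X.left.presheaf.stalk ξ)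
    haveI := fun j => isIntegral_subscheme_ker (Γs j)
    obtain ⟨π, hπ, hπspan⟩ := exists_prime_generator (Γs i).ι.ker V' ξ hξV (isGenericPoint_genPtOf (Γs i))
      (dim_genPtOf hreg hΓ i) (isGenericPoint_genPtOf (Γs i)).mem
    have hmax := (stalkIdeal_generic (Γs i).ι.ker V' ξ hξV (isGenericPoint_genPtOf (Γs i))).symm.trans hπspan
    rw [hmax, Ideal.span_singleton_pow, Ideal.span_singleton_pow, Ideal.span_singleton_eq_span_singleton] at h1
    exact le_antisymm ((pow_dvd_pow_iff hπ.ne_zero hπ.not_unit).1 h1.dvd)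
      ((pow_dvd_pow_iff hπ.ne_zero hπ.not_unit).1 h1.symm.dvd)
  let p : Fin n → ℕ := fun i => e i - Models.mult R X (Γs i) * N
  let q : Fin n → ℕ := fun i => Models.mult R X (Γs i) * N - e i
  refine ⟨p, q, fun i hi => by simp [p, q, heW i hi], ?_⟩
  have hD := isEffCartier hreg hΓ
  obtain ⟨ep⟩ := isInverseOf_multiTwist hD hL p
  obtain ⟨eq⟩ := isInverseOf_multiTwist hD hL q
  have hsum : (fun i => e i + q i) = fun i => p i + N * Models.mult R X (Γs i) := funext fun i => by
    simp only [p, q, mul_comm N]; omega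
  obtain ⟨i1⟩ := nonempty_div_add_mult hreg hΓ p N
  rw [← hsum] at i1
  obtain ⟨i2⟩ := Groth.L03.BlowPt.nonempty_idealMod_mul (isEffCartier_div hreg hΓ e) (isEffCartier_div hreg hΓ q)
  rw [← show div Γs (fun i => e i + q i) = div Γs e * div Γs q by
    rw [div, div, div, ← Finset.prod_mul_distrib]; exact Finset.prod_congr rfl fun j _ => pow_add _ _ _] at i2
  have eI' : CohB1.tensorMod (ClSub.idealMod (div Γs e)) M ≅ Coh.structureModule X.left :=
    eqToIso (by rw [← he]) ≪≫ eI
  refine Groth.L03.BlowPt.nonempty_iso_of_inverse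
    (M := ClSub.idealMod (div Γs p)) ?_ ep
  exact tensorIso (Iso.refl _) (i1.symm ≪≫ i2 ≪≫ tensorComm _ _) ≪≫ tensorAssoc M (FGA.multiTwist L q) _ ≪≫
    tensorIso (Iso.refl M) ((tensorAssoc _ _ _).symm ≪≫ tensorIso eq (Iso.refl _) ≪≫ tensorUnitLeft _) ≪≫
    tensorComm _ _ ≪≫ eI'

end Groth.L05.ArCanon
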